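import Mathlib

/-!
# An Eagon–Northcott type complex

Chains are functions on pairs of an exponent vector and a word; the differential contracts a letter
against a row while lowering the corresponding exponent.  Away from the maximal minors the complex
is exact, by an explicit homotopy.
-/

set_option autoImplicit false
set_option linter.unusedSectionVars false
set_option linter.style.haveILetI false

universe u

noncomputable section

namespace Groth.Agent.EagonN

variable {R : Type u} [CommRing R] {m n : ℕ}

/-- Functions on words. -/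
abbrev W (R : Type u) (n : ℕ) : Type u := List (Fin n) → R

/-- Contraction of a word against a vector. -/
def kap (v : Fin n → R) : W R n → List (Fin n) → R
  | x, [] => ∑ j, v j * x [j]
  | x, i :: w => (∑ j, v j * x (j :: i :: w)) - kap v (fun u => x (i :: u)) w

theorem kap_add (v : Fin n → R) : ∀ (w : List (Fin n)) (x y : W R n), kap v (x + y) w = kap v x w + kap v y w
  | [], x, y => by simp [kap, mul_add, Finset.sum_add_distrib]
  | i :: w, x, y => by
    simp only [kap, Pi.add_apply, mul_add, Finset.sum_add_distrib]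
    rw [show (fun u => x (i :: u) + y (i :: u)) = (fun u => x (i :: u)) + fun u => y (i :: u) from rfl,
      kap_add v w]
    ring

theorem kap_smul (v : Fin n → R) (c : R) : ∀ (w : List (Fin n)) (x : W R n), kap v (c • x) w = c * kap v x w
  | [], x => by simp only [kap, Pi.smul_apply, smul_eq_mul, Finset.mul_sum]; exact Finset.sum_congr rfl fun j _ => by ring
  | i :: w, x => by
    simp only [kap, Pi.smul_apply, smul_eq_mul]
    rw [show (fun u => c * x (i :: u)) = c • fun u => x (i :: u) from rfl, kap_smul v c w, mul_sub, Finset.mul_sum]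
    congr 1
    exact Finset.sum_congr rfl fun j _ => by ring

/-- Contraction as a linear map. -/
def kapL (v : Fin n → R) : W R n →ₗ[R] W R n where
  toFun x := kap v x
  map_add' x y := funext fun w => kap_add v w x y
  map_smul' c x := funext fun w => kap_smul v c w x

@[simp] theorem kapL_apply (v : Fin n → R) (x : W R n) (w : List (Fin n)) : kapL v x w = kap v x w := rfl

/-- Prefixing a vector. -/
def pre (g : Fin n → R) : W R n →ₗ[R] W R n where
  toFun x w := match w with
    | [] => 0
    | i :: u => g i * x u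
  map_add' x y := funext fun w => by cases w <;> simp [mul_add]
  map_smul' c x := funext fun w => by
    cases w with
    | nil => simp
    | cons i u => simp only [Pi.smul_apply, smul_eq_mul, RingHom.id_apply]; ring

@[simp] theorem pre_nil (g : Fin n → R) (x : W R n) : pre g x [] = 0 := rfl
@[simp] theorem pre_cons (g : Fin n → R) (x : W R n) (i : Fin n) (u : List (Fin n)) :
    pre g x (i :: u) = g i * x u := rfl

theorem kap_zero (v : Fin n → R) (w : List (Fin n)) : kap v (0 : W R n) w = 0 :=
  congrFun (map_zero (kapL v)) w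

theorem kap_pre (v g : Fin n → R) (x : W R n) (w : List (Fin n)) :
    kap v (pre g x) w = (∑ j, v j * g j) * x w - pre g (kapL v x) w := by
  cases w with
  | nil =>
    simp only [kap, pre_cons, pre_nil, sub_zero, Finset.sum_mul]
    exact Finset.sum_congr rfl fun j _ => by ring
  | cons i u =>
    simp only [kap, pre_cons, kapL_apply, Finset.sum_mul]
    rw [show (fun w => g i * x w) = g i • x from rfl, kap_smul]
    congr 1
    exact Finset.sum_congr rfl fun j _ => by ring

theorem kap_sum (v : Fin n → R) {ι : Type*} (s : Finset ι) (f : ι → W R n) (w : List (Fin n)) :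
    kap v (∑ a ∈ s, f a) w = ∑ a ∈ s, kap v (f a) w := by
  rw [← kapL_apply, map_sum, Finset.sum_apply]
  rfl

theorem kap_comm (v v' : Fin n → R) : ∀ (w : List (Fin n)) (x : W R n),
    kap v (kap v' x) w + kap v' (kap v x) w = 0
  | [], x => by
    simp only [kap, mul_sub, Finset.mul_sum, Finset.sum_sub_distrib]
    have e : ∀ a b : Fin n → R, ∑ j, ∑ l, a j * (b l * x [l, j]) = ∑ l, ∑ j, b l * (a j * x [l, j]) := fun a b => by
      rw [Finset.sum_comm]
      exact Finset.sum_congr rfl fun l _ => Finset.sum_congr rfl fun j _ => by ring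
    rw [e v v', e v' v]
    ring
  | i :: w, x => by
    have h1 : ∀ a b : Fin n → R, kap a (kap b x) (i :: w) = (∑ j, ∑ l, a j * (b l * x (l :: j :: i :: w))) -
        (∑ j, ∑ l, a j * (b l * x (j :: l :: i :: w))) + (∑ j, a j * kap b (fun u => x (j :: i :: u)) w) -
        (∑ j, b j * kap a (fun u => x (j :: i :: u)) w) + kap a (kap b fun u => x (i :: u)) w := by
      intro a b
      have h2 : (fun u => kap b x (i :: u)) =
          (∑ j, b j • fun u => x (j :: i :: u)) - kap b fun u => x (i :: u) := funext fun u => by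
        simp [kap, Finset.sum_apply]
      rw [show kap a (kap b x) (i :: w) = (∑ j, a j * kap b x (j :: i :: w)) - kap a (fun u => kap b x (i :: u)) w
        from rfl, h2, ← kapL_apply a, map_sub, map_sum]
      simp only [Pi.sub_apply, Finset.sum_apply, map_smul, Pi.smul_apply, smul_eq_mul, kapL_apply, kap,
        mul_sub, Finset.mul_sum, Finset.sum_sub_distrib]
      ring
    have e : ∀ a b : Fin n → R, (∑ j, ∑ l, a j * (b l * x (l :: j :: i :: w))) =
        ∑ j, ∑ l, b j * (a l * x (j :: l :: i :: w)) := fun a b => by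
      rw [Finset.sum_comm]
      exact Finset.sum_congr rfl fun l _ => Finset.sum_congr rfl fun j _ => by ring
    rw [h1, h1, e v v', e v' v]
    linear_combination kap_comm v v' w (fun u => x (i :: u))

theorem kap_self (v : Fin n → R) : ∀ (w : List (Fin n)) (x : W R n), kap v (kap v x) w = 0
  | [], x => by
    simp only [kap, mul_sub, Finset.mul_sum, Finset.sum_sub_distrib]
    rw [Finset.sum_comm, sub_eq_zero]
    exact Finset.sum_congr rfl fun l _ => Finset.sum_congr rfl fun j _ => by ring
  | i :: w, x => by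
    have h2 : (fun u => kap v x (i :: u)) =
        (∑ j, v j • fun u => x (j :: i :: u)) - kap v fun u => x (i :: u) := funext fun u => by
      simp [kap, Finset.sum_apply]
    rw [show kap v (kap v x) (i :: w) = (∑ j, v j * kap v x (j :: i :: w)) - kap v (fun u => kap v x (i :: u)) w
      from rfl, h2, ← kapL_apply v (_ - _), map_sub, map_sum]
    simp only [Pi.sub_apply, Finset.sum_apply, map_smul, Pi.smul_apply, smul_eq_mul, kapL_apply, kap,
      mul_sub, Finset.mul_sum, Finset.sum_sub_distrib, kap_self v w, sub_zero]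
    have e : ∑ j, ∑ l, v j * (v l * x (l :: j :: i :: w)) = ∑ j, ∑ l, v j * (v l * x (j :: l :: i :: w)) := by
      rw [Finset.sum_comm]
      exact Finset.sum_congr rfl fun l _ => Finset.sum_congr rfl fun j _ => by ring
    rw [e]
    ring

/-- Chains. -/
abbrev Ch (R : Type u) (m n : ℕ) : Type u := (Fin m → ℕ) → W R n

/-- Raise an exponent. -/
def up (l : Fin m) (a : Fin m → ℕ) : Fin m → ℕ := Function.update a l (a l + 1)
/-- Lower an exponent. -/
def dn (l : Fin m) (a : Fin m → ℕ) : Fin m → ℕ := Function.update a l (a l - 1)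

theorem up_comm (l l' : Fin m) (a : Fin m → ℕ) : up l (up l' a) = up l' (up l a) := by
  funext t
  simp only [up, Function.update_apply]
  split_ifs <;> subst_vars <;> simp_all

theorem dn_up (l : Fin m) (a : Fin m → ℕ) : dn l (up l a) = a := by
  funext t
  simp only [up, dn, Function.update_apply]
  split_ifs <;> subst_vars <;> simp_all

theorem up_dn (l : Fin m) {a : Fin m → ℕ} (h : a l ≠ 0) : up l (dn l a) = a := by
  funext t
  simp only [up, dn, Function.update_apply]
  split_ifs <;> subst_vars <;> simp_all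
  omega

theorem up_apply_ne {l i : Fin m} (h : l ≠ i) (a : Fin m → ℕ) : up l a i = a i :=
  Function.update_of_ne (Ne.symm h) _ _

theorem up_dn_comm {l i : Fin m} (h : l ≠ i) (a : Fin m → ℕ) : dn i (up l a) = up l (dn i a) := by
  funext t
  simp only [up, dn, Function.update_apply]
  split_ifs <;> subst_vars <;> simp_all

theorem sum_up (l : Fin m) (a : Fin m → ℕ) : ∑ t, up l a t = (∑ t, a t) + 1 := by
  rw [up, Finset.sum_update_of_mem (Finset.mem_univ l), ← Finset.sum_erase_add _ a (Finset.mem_univ l),
    Finset.sdiff_singleton_eq_erase]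
  omega

/-- Lowering multiplication. -/
def Y (l : Fin m) : Ch R m n →ₗ[R] Ch R m n where
  toFun x a := x (up l a)
  map_add' _ _ := rfl
  map_smul' _ _ := rfl

/-- Division. -/
def D (l : Fin m) : Ch R m n →ₗ[R] Ch R m n where
  toFun x a := if a l = 0 then 0 else x (dn l a)
  map_add' x y := funext fun a => by by_cases h : a l = 0 <;> simp [h]
  map_smul' c x := funext fun a => by by_cases h : a l = 0 <;> simp [h]

/-- Projection. -/
def P (l : Fin m) : Ch R m n →ₗ[R] Ch R m n where
  toFun x a := if a l = 0 then x a else 0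
  map_add' x y := funext fun a => by by_cases h : a l = 0 <;> simp [h]
  map_smul' c x := funext fun a => by by_cases h : a l = 0 <;> simp [h]

variable (L : Fin m → Fin n → R)

/-- Contraction against a row. -/
def K (l : Fin m) : Ch R m n →ₗ[R] Ch R m n := LinearMap.compLeft (kapL (L l)) (Fin m → ℕ)

theorem K_apply (l : Fin m) (x : Ch R m n) (a : Fin m → ℕ) : K L l x a = kapL (L l) (x a) := rfl

/-- The differential. -/
def δ : Ch R m n →ₗ[R] Ch R m n := ∑ l, Y l ∘ₗ K L l

theorem δ_apply (x : Ch R m n) (a : Fin m → ℕ) : δ L x a = ∑ l, kapL (L l) (x (up l a)) := by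
  simp [δ, LinearMap.sum_apply, Finset.sum_apply, Y, K_apply]

theorem δ_δ (x : Ch R m n) : δ L (δ L x) = 0 := by
  funext a w
  simp only [δ_apply, map_sum, Finset.sum_apply, kapL_apply, Pi.zero_apply]
  rw [← Finset.sum_product']
  refine Finset.sum_involution (fun p _ => (p.2, p.1)) (fun p _ => ?_) (fun p _ hp => ?_)
    (fun p _ => by simp) (fun p _ => rfl)
  · rw [up_comm p.2 p.1]
    exact kap_comm (L p.1) (L p.2) w _
  · intro h
    have h' : p.2 = p.1 := congrArg Prod.fst h
    exact hp (by rw [h']; exact kap_self (L p.1) w _)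

/-- Prefixing on chains. -/
def G (g : Fin n → R) : Ch R m n →ₗ[R] Ch R m n := LinearMap.compLeft (pre g) (Fin m → ℕ)

theorem G_apply (g : Fin n → R) (x : Ch R m n) (a : Fin m → ℕ) : G g x a = pre g (x a) := rfl

variable (g : Fin m → Fin n → R) (d : R) (hg : ∀ l i, ∑ j, L l j * g i j = if l = i then d else 0)

/-- The projection of one step. -/
def T (i : Fin m) : Ch R m n →ₗ[R] Ch R m n := G (g i) ∘ₗ P i ∘ₗ K L i

/-- The homotopy of one step. -/
def h1 (i : Fin m) : Ch R m n →ₗ[R] Ch R m n := G (g i) ∘ₗ D i

include hg in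
theorem kap_g (l i : Fin m) (y : W R n) :
    kapL (L l) (pre (g i) y) = (if l = i then d else 0) • y - pre (g i) (kapL (L l) y) := funext fun w => by
  rw [kapL_apply, kap_pre, hg]
  rfl

theorem δ_D (i : Fin m) (x : Ch R m n) : δ L (D i x) = D i (δ L x) + P i (K L i x) := by
  funext a
  rw [Pi.add_apply, δ_apply]
  show _ = (if a i = 0 then 0 else δ L x (dn i a)) + (if a i = 0 then kapL (L i) (x a) else 0)
  by_cases h : a i = 0
  · rw [if_pos h, if_pos h, zero_add, Finset.sum_eq_single i]
    · show kapL (L i) (if up i a i = 0 then 0 else x (dn i (up i a))) = _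
      rw [if_neg (by simp [up]), dn_up]
    · intro l _ hl
      show kapL (L l) (if up l a i = 0 then 0 else x (dn i (up l a))) = _
      rw [if_pos (by rw [up_apply_ne hl]; exact h), map_zero]
    · simp
  · rw [if_neg h, if_neg h, add_zero, δ_apply]
    refine Finset.sum_congr rfl fun l _ => ?_
    show kapL (L l) (if up l a i = 0 then 0 else x (dn i (up l a))) = _
    by_cases hl : l = i
    · subst hl
      rw [if_neg (by simp [up]), dn_up, up_dn l h]
    · rw [if_neg (by rw [up_apply_ne hl]; exact h), up_dn_comm hl]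

include hg in
theorem δ_G (i : Fin m) (x : Ch R m n) : δ L (G (g i) x) = d • Y i x - G (g i) (δ L x) := by
  funext a
  rw [Pi.sub_apply, δ_apply, G_apply, δ_apply, map_sum]
  simp only [G_apply, kap_g L g d hg, Finset.sum_sub_distrib, ite_smul, zero_smul]
  rw [Finset.sum_ite_eq' Finset.univ i]
  simp only [Finset.mem_univ, if_true]
  rfl

include hg in
/-- One step of the homotopy. -/
theorem step (i : Fin m) (x : Ch R m n) : d • x = δ L (h1 g i x) + h1 g i (δ L x) + T L g i x := by
  have hY : Y i (D i x) = x := funext fun a => by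
    show (if up i a i = 0 then 0 else x (dn i (up i a))) = x a
    rw [if_neg (by simp [up]), dn_up]
  rw [h1, T, LinearMap.comp_apply, LinearMap.comp_apply, LinearMap.comp_apply, LinearMap.comp_apply,
    δ_G L g d hg, δ_D, hY, map_add]
  abel

include hg in
theorem δ_T (i : Fin m) (x : Ch R m n) : δ L (T L g i x) = T L g i (δ L x) := by
  have e := fun y => eq_sub_of_add_eq' (step L g d hg i y).symm
  rw [e, e, map_sub, map_add, δ_δ, δ_δ, map_zero, map_smul]
  abel

/-- The composite of the projections. -/
def S : List (Fin m) → (Ch R m n →ₗ[R] Ch R m n)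
  | [] => LinearMap.id
  | i :: t => S t ∘ₗ T L g i

/-- The homotopy. -/
def H : List (Fin m) → (Ch R m n →ₗ[R] Ch R m n)
  | [] => 0
  | i :: t => d ^ t.length • h1 g i + H t ∘ₗ T L g i

include hg in
theorem homotopy : ∀ (t : List (Fin m)) (x : Ch R m n),
    d ^ t.length • x = δ L (H L g d t x) + H L g d t (δ L x) + S L g t x
  | [], x => by simp [H, S]
  | i :: t, x => by
    rw [List.length_cons, pow_succ, mul_smul, step L g d hg i x, smul_add, smul_add,
      homotopy t (T L g i x), δ_T L g d hg i x]
    simp only [H, S, LinearMap.add_apply, LinearMap.smul_apply, LinearMap.comp_apply, map_add, map_smul]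
    abel

theorem T_apply (i : Fin m) (x : Ch R m n) (a : Fin m → ℕ) :
    T L g i x a = if a i = 0 then pre (g i) (kapL (L i) (x a)) else 0 := by
  show pre (g i) (if a i = 0 then kapL (L i) (x a) else 0) = _
  by_cases h : a i = 0 <;> simp [h]

theorem T_apply_eq_zero (i : Fin m) {x : Ch R m n} {a : Fin m → ℕ} (hx : x a = 0) : T L g i x a = 0 := by
  rw [T_apply, hx]
  simp

theorem S_apply_eq_zero : ∀ (t : List (Fin m)) (x : Ch R m n) (a : Fin m → ℕ),
    ((∃ i ∈ t, a i ≠ 0) ∨ x a = 0) → S L g t x a = 0
  | [], x, a, h => by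
    rcases h with ⟨i, hi, -⟩ | h
    · simp at hi
    · exact h
  | i :: t, x, a, h => by
    show S L g t (T L g i x) a = 0
    refine S_apply_eq_zero t _ a ?_
    by_cases hi : a i = 0
    · rcases h with ⟨j, hj, hja⟩ | h
      · rcases List.mem_cons.1 hj with rfl | hj
        · exact absurd hi hja
        · exact Or.inl ⟨j, hj, hja⟩
      · exact Or.inr (T_apply_eq_zero L g i h)
    · exact Or.inr (by rw [T_apply, if_neg hi])

/-- Iterated contraction, the head first. -/
def kk : List (Fin n → R) → (W R n →ₗ[R] W R n)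
  | [] => LinearMap.id
  | v :: t => kk t ∘ₗ kapL v

theorem kk_kap_swap : ∀ (t : List (Fin n → R)) (v : Fin n → R) (x : W R n),
    kk t (kapL v x) = (-1 : R) ^ t.length • kapL v (kk t x)
  | [], v, x => by simp [kk]
  | u :: t, v, x => by
    have h : kapL u (kapL v x) = -kapL v (kapL u x) := funext fun w => eq_neg_of_add_eq_zero_left (kap_comm u v w x)
    show kk t (kapL u (kapL v x)) = _
    rw [h, map_neg, kk_kap_swap t v, List.length_cons, pow_succ, mul_neg_one, neg_smul]
    rfl

theorem kk_kap_eq_zero : ∀ (t : List (Fin n → R)) (v : Fin n → R) (x : W R n), v ∈ t → kk t (kapL v x) = 0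
  | [], v, x, h => by simp at h
  | u :: t, v, x, h => by
    show kk t (kapL u (kapL v x)) = 0
    rcases List.mem_cons.1 h with rfl | h
    · rw [show kapL v (kapL v x) = 0 from funext fun w => kap_self v w x, map_zero]
    · rw [show kapL u (kapL v x) = -kapL v (kapL u x) from funext fun w =>
        eq_neg_of_add_eq_zero_left (kap_comm u v w x), map_neg, kk_kap_eq_zero t v _ h, neg_zero]

/-- Iterated prefixing. -/
def gg : List (Fin m) → (W R n →ₗ[R] W R n)
  | [] => LinearMap.id
  | i :: t => (-1 : R) ^ t.length • (gg t ∘ₗ pre (g i))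

include hg in
theorem kk_pre : ∀ (t : List (Fin m)) (i : Fin m), i ∉ t → ∀ y : W R n,
    kk (t.map L) (pre (g i) y) = (-1 : R) ^ t.length • pre (g i) (kk (t.map L) y)
  | [], i, _, y => by simp [kk]
  | j :: t, i, hi, y => by
    rw [List.mem_cons, not_or] at hi
    show kk (t.map L) (kapL (L j) (pre (g i) y)) = _
    rw [kap_g L g d hg, if_neg (Ne.symm hi.1), zero_smul, zero_sub, map_neg, kk_pre t i hi.2,
      List.length_cons, pow_succ, mul_neg_one, neg_smul]
    rfl

include hg in
theorem S_zero : ∀ (t : List (Fin m)), t.Nodup → ∀ (x : Ch R m n) (a : Fin m → ℕ), (∀ i, a i = 0) →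
    S L g t x a = gg g t (kk (t.map L) (x a))
  | [], _, x, a, _ => rfl
  | i :: t, ht, x, a, ha => by
    rw [List.nodup_cons] at ht
    show S L g t (T L g i x) a = _
    rw [S_zero t ht.2 _ a ha, T_apply, if_pos (ha i), kk_pre L g d hg t i ht.1]
    simp only [gg, List.map_cons, kk, LinearMap.smul_apply, LinearMap.comp_apply, map_smul]

/-- The total contraction. -/
def ε (x : Ch R m n) : R := kk ((List.finRange m).map L) (x 0) []

theorem ε_δ (x : Ch R m n) : ε L (δ L x) = 0 := by
  rw [ε, δ_apply, map_sum, Finset.sum_apply]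
  refine Finset.sum_eq_zero fun l _ => ?_
  rw [kk_kap_eq_zero _ _ _ (List.mem_map.2 ⟨l, List.mem_finRange l, rfl⟩)]
  rfl

/-- Chains of a degree. -/
def Supp (p q : ℕ) (x : Ch R m n) : Prop :=
  ∀ (a : Fin m → ℕ) (w : List (Fin n)), ¬ ((∑ t, a t) = p ∧ w.length = q) → x a w = 0

theorem kap_eq_zero_of (v : Fin n → R) : ∀ (w : List (Fin n)) (x : W R n) (q : ℕ),
    (∀ u : List (Fin n), u.length ≠ q → x u = 0) → w.length + 1 ≠ q → kap v x w = 0
  | [], x, q, h, hq => by
    simp only [kap]
    exact Finset.sum_eq_zero fun j _ => by rw [h [j] (by simpa using hq), mul_zero]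
  | i :: w, x, q, h, hq => by
    simp only [kap]
    rw [Finset.sum_eq_zero fun j _ => by rw [h (j :: i :: w) (by simpa using hq), mul_zero], zero_sub, neg_eq_zero]
    exact kap_eq_zero_of v w _ (q - 1) (fun u hu => h _ (by simp; omega)) (by simp at hq; omega)

theorem supp_δ {p q : ℕ} {x : Ch R m n} (h : Supp (p + 1) (q + 1) x) : Supp p q (δ L x) := fun a w hw => by
  rw [δ_apply, Finset.sum_apply]
  refine Finset.sum_eq_zero fun l _ => ?_
  by_cases ha : (∑ t, a t) = p
  · refine kap_eq_zero_of (L l) w _ (q + 1) (fun u hu => h _ _ fun h' => hu h'.2) fun hq => hw ⟨ha, by omega⟩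
  · rw [show x (up l a) = 0 from funext fun u => h _ _ fun h' => ha (by rw [sum_up] at h'; omega), map_zero]
    rfl

theorem δ_eq_zero_of_supp {q : ℕ} {x : Ch R m n} (h : Supp 0 q x) : δ L x = 0 := by
  funext a w
  rw [δ_apply, Finset.sum_apply, Pi.zero_apply, Pi.zero_apply]
  refine Finset.sum_eq_zero fun l _ => ?_
  rw [show x (up l a) = 0 from funext fun u => h _ _ fun h' => by rw [sum_up] at h'; omega, map_zero]
  rfl

theorem pre_eq_zero_of (v : Fin n → R) {x : W R n} {q : ℕ} (h : ∀ u : List (Fin n), u.length ≠ q → x u = 0)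
    (w : List (Fin n)) (hw : w.length ≠ q + 1) : pre v x w = 0 := by
  cases w with
  | nil => rfl
  | cons i u => rw [pre_cons, h u (by simpa using hw), mul_zero]

theorem supp_T {p q : ℕ} {x : Ch R m n} (i : Fin m) (h : Supp p (q + 1) x) : Supp p (q + 1) (T L g i x) :=
  fun a w hw => by
  by_cases ha : (∑ t, a t) = p
  · rw [T_apply]
    split_ifs
    · refine pre_eq_zero_of (g i) (q := q) (fun u hu => ?_) w fun hq => hw ⟨ha, hq⟩
      exact kap_eq_zero_of (L i) u _ (q + 1) (fun v hv => h _ _ fun h' => hv h'.2) (by omega)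
    · rfl
  · rw [T_apply_eq_zero L g i (funext fun u => h _ _ fun h' => ha h'.1)]
    rfl

theorem supp_h1 {p q : ℕ} {x : Ch R m n} (i : Fin m) (h : Supp p q x) : Supp (p + 1) (q + 1) (h1 g i x) :=
  fun a w hw => by
  show pre (g i) (if a i = 0 then 0 else x (dn i a)) w = 0
  by_cases ha : a i = 0
  · rw [if_pos ha, map_zero]; rfl
  rw [if_neg ha]
  by_cases hs : (∑ t, a t) = p + 1
  · exact pre_eq_zero_of (g i) (q := q) (fun u hu => h _ _ fun h' => hu h'.2) w fun hq => hw ⟨hs, hq⟩
  · rw [show x (dn i a) = 0 from funext fun u => h _ _ fun h' => hs (by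
      rw [← up_dn i ha, sum_up]; omega), map_zero]
    rfl

theorem supp_H {p q : ℕ} : ∀ (t : List (Fin m)) (x : Ch R m n), Supp p (q + 1) x →
    Supp (p + 1) (q + 2) (H L g d t x)
  | [], x, _ => fun a w _ => rfl
  | i :: t, x, h => fun a w hw => by
    show (d ^ t.length • h1 g i x) a w + H L g d t (T L g i x) a w = 0
    rw [Pi.smul_apply, Pi.smul_apply, supp_h1 g i h a w hw, smul_zero,
      supp_H t _ (supp_T L g i h) a w hw, add_zero]

include hg in
/-- The homotopy in positive degree. -/
theorem homotopy_pos {p q : ℕ} {x : Ch R m n} (h : Supp (p + 1) q x) :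
    d ^ m • x = δ L (H L g d (List.finRange m) x) + H L g d (List.finRange m) (δ L x) := by
  have e := homotopy L g d hg (List.finRange m) x
  rw [List.length_finRange] at e
  rw [e, add_eq_left]
  funext a
  refine S_apply_eq_zero L g _ x a ?_
  by_cases ha : ∀ i, a i = 0
  · exact Or.inr (funext fun u => h _ _ fun h' => by
      rw [Finset.sum_eq_zero fun t _ => ha t] at h'; omega)
  · push Not at ha
    obtain ⟨i, hi⟩ := ha
    exact Or.inl ⟨i, List.mem_finRange i, hi⟩

/-- The scalar as a chain. -/
def unit0 (c : R) : W R n := fun w => if w = [] then c else 0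

theorem kk_eq_zero_of : ∀ (t : List (Fin n → R)) (x : W R n) (q : ℕ), (∀ u : List (Fin n), u.length ≠ q → x u = 0) →
    ∀ w : List (Fin n), w.length + t.length ≠ q → kk t x w = 0
  | [], x, q, h, w, hw => h w (by simpa using hw)
  | v :: t, x, q, h, w, hw => by
    show kk t (kapL v x) w = 0
    rcases q with _ | q
    · rw [show kapL v x = 0 from funext fun u => kap_eq_zero_of v u x 0 h (by omega), map_zero]; rfl
    · exact kk_eq_zero_of t _ q (fun u hu => kap_eq_zero_of v u x (q + 1) h (by omega)) w (by simp at hw; omega)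

include hg in
/-- The homotopy in degree zero. -/
theorem homotopy_zero {x : Ch R m n} (h : Supp 0 m x) :
    d ^ m • x = δ L (H L g d (List.finRange m) x) +
      (fun a => if a = 0 then gg g (List.finRange m) (unit0 (ε L x)) else 0) := by
  have e := homotopy L g d hg (List.finRange m) x
  rw [List.length_finRange, δ_eq_zero_of_supp L h, map_zero, add_zero] at e
  rw [e]
  congr 1
  funext a
  by_cases ha : a = 0
  · subst ha
    rw [if_pos rfl, S_zero L g d hg _ (List.nodup_finRange m) x 0 fun _ => rfl]
    congr 1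
    funext w
    by_cases hw : w = []
    · subst hw; simp [unit0, ε]
    · simp only [unit0, if_neg hw]
      exact kk_eq_zero_of _ _ m (fun u hu => h _ _ fun h' => hu h'.2) w (by
        rw [List.length_map, List.length_finRange]
        have := List.length_pos_iff.2 hw
        omega)
  · rw [if_neg ha]
    refine S_apply_eq_zero L g _ x a (Or.inl ?_)
    by_contra hc
    push Not at hc
    exact ha (funext fun i => hc i (List.mem_finRange i))

/-- The indicator of a word. -/
def wd (u : List (Fin n)) : W R n := fun w => if w = u then 1 else 0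

theorem kap_wd (v : Fin n → R) : ∀ {q : ℕ} (u : Fin (q + 1) → Fin n),
    kapL v (wd (R := R) (List.ofFn u)) =
      ∑ p : Fin (q + 1), ((-1 : R) ^ (p : ℕ) * v (u p)) • wd (List.ofFn fun t => u (p.succAbove t))
  | 0, u => by
    funext w
    simp only [Fin.sum_univ_one, Pi.smul_apply, smul_eq_mul, kapL_apply]
    cases w with
    | nil => simp [kap, wd, List.ofFn_succ]
    | cons i w =>
      simp only [kap]
      rw [Finset.sum_eq_zero fun j _ => by simp [wd, List.ofFn_succ], zero_sub,
        show (fun z => wd (R := R) (List.ofFn u) (i :: z)) = (if i = u 0 then wd [] else 0) from funext fun z => by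
          by_cases hi : i = u 0 <;> simp [wd, List.ofFn_succ, hi]]
      by_cases hi : i = u 0
      · rw [if_pos hi]
        cases w with
        | nil => simp [kap, wd]
        | cons b w =>
          simp only [kap]
          rw [Finset.sum_eq_zero fun j _ => by simp [wd], zero_sub, show (fun z => wd (R := R) [] (b :: z)) = 0
            from funext fun z => by simp [wd], kap_zero]
          simp [wd]
      · rw [if_neg hi, kap_zero]
        simp [wd]
  | q + 1, u => by
    funext w
    rw [Finset.sum_apply, Fin.sum_univ_succ]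
    simp only [Pi.smul_apply, smul_eq_mul, kapL_apply, Fin.val_zero, pow_zero, one_mul, Fin.succAbove_zero,
      Fin.val_succ]
    cases w with
    | nil => simp [kap, wd, List.ofFn_succ]
    | cons i w =>
      simp only [kap]
      have hfst : ∑ j, v j * wd (R := R) (List.ofFn u) (j :: i :: w) =
          v (u 0) * wd (List.ofFn fun t => u t.succ) (i :: w) := by
        rw [Finset.sum_eq_single (u 0)]
        · simp [wd, List.ofFn_succ]
        · intro j _ hj; simp [wd, List.ofFn_succ, hj]
        · simp
      rw [hfst, show (fun z => wd (R := R) (List.ofFn u) (i :: z)) =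
          (if i = u 0 then wd (List.ofFn fun t => u t.succ) else 0) from funext fun z => by
          by_cases hi : i = u 0 <;> simp [wd, List.ofFn_succ, hi]]
      rw [sub_eq_add_neg]
      congr 1
      by_cases hi : i = u 0
      · rw [if_pos hi, ← kapL_apply, kap_wd v (fun t => u t.succ), Finset.sum_apply, ← Finset.sum_neg_distrib]
        refine Finset.sum_congr rfl fun p _ => ?_
        rw [Pi.smul_apply, smul_eq_mul, List.ofFn_succ]
        simp [wd, hi, pow_succ]
        split_ifs <;> simp
      · rw [if_neg hi, kap_zero, neg_zero]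
        refine (Finset.sum_eq_zero fun p _ => ?_).symm
        rw [List.ofFn_succ]
        simp [wd, hi]

theorem kk_wd : ∀ {q : ℕ} (v : Fin q → Fin n → R) (u : Fin q → Fin n),
    kk (List.ofFn v) (wd (List.ofFn u)) [] = (Matrix.of fun a b => v a (u b)).det
  | 0, v, u => by simp [kk, wd]
  | q + 1, v, u => by
    rw [List.ofFn_succ, kk, LinearMap.comp_apply, kap_wd, map_sum, Finset.sum_apply, Matrix.det_succ_row_zero]
    refine Finset.sum_congr rfl fun p _ => ?_
    rw [map_smul, Pi.smul_apply, smul_eq_mul, kk_wd]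
    rfl

/-- The total contraction of a word is a minor. -/
theorem ε_wd (u : Fin m → Fin n) :
    ε L (fun a => if a = 0 then wd (List.ofFn u) else 0) = (Matrix.of fun a b => L a (u b)).det := by
  rw [ε, if_pos rfl, ← List.ofFn_eq_map, kk_wd]

section Homogeneous

variable {k : Type*} [CommRing k] [Algebra k R] (𝒜 : ℕ → Submodule k R) [SetLike.GradedMonoid 𝒜]

/-- All values are homogeneous of degree `e`. -/
def HomW (e : ℕ) (x : W R n) : Prop := ∀ w, x w ∈ 𝒜 e

/-- All values are homogeneous of degree `e`. -/
def HomC (e : ℕ) (x : Ch R m n) : Prop := ∀ a, HomW 𝒜 e (x a)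

theorem homW_kap {v : Fin n → R} {c : ℕ} (hv : ∀ j, v j ∈ 𝒜 c) : ∀ (w : List (Fin n)) (e : ℕ) (x : W R n),
    HomW 𝒜 e x → kap v x w ∈ 𝒜 (c + e)
  | [], e, x, h => by
    simp only [kap]
    exact Submodule.sum_mem _ fun j _ => SetLike.mul_mem_graded (hv j) (h _)
  | i :: w, e, x, h => by
    simp only [kap]
    exact Submodule.sub_mem _ (Submodule.sum_mem _ fun j _ => SetLike.mul_mem_graded (hv j) (h _))
      (homW_kap hv w e _ fun u => h _)

theorem homW_pre {v : Fin n → R} {c : ℕ} (hv : ∀ j, v j ∈ 𝒜 c) {e : ℕ} {x : W R n} (h : HomW 𝒜 e x) :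
    HomW 𝒜 (c + e) (pre v x) := fun w => by
  cases w with
  | nil => exact Submodule.zero_mem _
  | cons i u => rw [pre_cons]; exact SetLike.mul_mem_graded (hv i) (h u)

variable (hL : ∀ l j, L l j ∈ 𝒜 1)

include hL in
theorem homC_δ {e : ℕ} {x : Ch R m n} (h : HomC 𝒜 e x) : HomC 𝒜 (1 + e) (δ L x) := fun a w => by
  rw [δ_apply, Finset.sum_apply]
  exact Submodule.sum_mem _ fun l _ => homW_kap 𝒜 (hL l) w e _ (h _)

variable {c : ℕ} (hgc : ∀ i j, g i j ∈ 𝒜 c) (hd : d ∈ 𝒜 (1 + c))

include hL hgc in
theorem homC_T {e : ℕ} {x : Ch R m n} (i : Fin m) (h : HomC 𝒜 e x) : HomC 𝒜 (c + (1 + e)) (T L g i x) :=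
  fun a w => by
  rw [T_apply]
  split_ifs
  · exact homW_pre 𝒜 (hgc i) (fun u => homW_kap 𝒜 (hL i) u e _ (h a)) w
  · exact Submodule.zero_mem _

include hgc in
theorem homC_h1 {e : ℕ} {x : Ch R m n} (i : Fin m) (h : HomC 𝒜 e x) : HomC 𝒜 (c + e) (h1 g i x) :=
  fun a w => by
  show pre (g i) (if a i = 0 then 0 else x (dn i a)) w ∈ _
  refine homW_pre 𝒜 (hgc i) (fun u => ?_) w
  split_ifs
  · exact Submodule.zero_mem _
  · exact h _ u

include hL hgc hd in
theorem homC_H : ∀ (t : List (Fin m)) (e : ℕ) (x : Ch R m n), HomC 𝒜 e x →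
    HomC 𝒜 (t.length * (1 + c) + e - 1) (H L g d t x)
  | [], e, x, _ => fun a w => Submodule.zero_mem _
  | i :: t, e, x, h => fun a w => by
    show (d ^ t.length • h1 g i x) a w + H L g d t (T L g i x) a w ∈ _
    refine Submodule.add_mem _ ?_ ?_
    · rw [Pi.smul_apply, Pi.smul_apply, smul_eq_mul]
      have h' := SetLike.mul_mem_graded (SetLike.pow_mem_graded t.length hd) (homC_h1 g 𝒜 hgc i h a w)
      rw [smul_eq_mul] at h'
      rwa [show (i :: t).length * (1 + c) + e - 1 = t.length * (1 + c) + (c + e) by
        rw [List.length_cons, Nat.add_mul]; omega]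
    · have h' := homC_H t _ _ (homC_T L g 𝒜 hL hgc i h) a w
      rwa [show (i :: t).length * (1 + c) + e - 1 = t.length * (1 + c) + (c + (1 + e)) - 1 by
        rw [List.length_cons, Nat.add_mul]; omega]

include hgc in
theorem homW_gg : ∀ (t : List (Fin m)) (e : ℕ) (x : W R n), HomW 𝒜 e x → HomW 𝒜 (t.length * c + e) (gg g t x)
  | [], e, x, h => by simpa [gg] using h
  | i :: t, e, x, h => fun w => by
    show ((-1 : R) ^ t.length • gg g t (pre (g i) x)) w ∈ _
    rw [Pi.smul_apply, show (i :: t).length * c + e = t.length * c + (c + e) by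
      rw [List.length_cons, Nat.add_mul]; omega]
    have h' := homW_gg t _ _ (homW_pre 𝒜 (hgc i) h) w
    rcases neg_one_pow_eq_or R t.length with hs | hs <;> rw [hs]
    · rwa [one_smul]
    · rw [neg_smul, one_smul]; exact Submodule.neg_mem _ h'

end Homogeneous

end Groth.Agent.EagonN
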