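import Groth.Agent.FittX.Sheaf
import Groth.Agent.FittX.Minors
import Groth.Agent.H26.IdealCl
import Groth.Agent.QCoh.DevissageSum

/-!
# The zeroth Fitting ideal of a presentation
-/

set_option autoImplicit false
set_option linter.style.haveILetI false
set_option linter.unusedSectionVars false
set_option backward.isDefEq.respectTransparency false
set_option backward.isDefEq.respectTransparency.types false
set_option maxHeartbeats 1000000

universe u

open CategoryTheory CategoryTheory.Limits AlgebraicGeometry TopologicalSpace Opposite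

noncomputable section

namespace Groth.Agent.EagonN

open Groth.Agent

variable {X : Scheme.{u}}

/-- The projections of a finite sum. -/
def coproj {α : Type} [DecidableEq α] (F : X.Modules) (l : α) : (∐ fun _ : α => F) ⟶ F :=
  Sigma.desc fun t => if t = l then 𝟙 F else 0

theorem ι_coproj {α : Type} [DecidableEq α] (F : X.Modules) (t l : α) :
    Sigma.ι (fun _ : α => F) t ≫ coproj F l = if t = l then 𝟙 F else 0 := Sigma.ι_desc _ _

theorem sum_coproj {α : Type} [DecidableEq α] [Fintype α] (F : X.Modules) :
    ∑ l, coproj F l ≫ Sigma.ι (fun _ : α => F) l = 𝟙 _ :=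
  Sigma.hom_ext _ _ fun t => by
    rw [Preadditive.comp_sum, Category.comp_id, Finset.sum_eq_single t]
    · rw [← Category.assoc, ι_coproj, if_pos rfl, Category.id_comp]
    · intro l _ hl; rw [← Category.assoc, ι_coproj, if_neg (Ne.symm hl), zero_comp]
    · simp

theorem app_finset_sum {M N : X.Modules} {α : Type} (s : Finset α) (f : α → (M ⟶ N)) (U : X.Opens)
    (v : Γ(M, U)) : (∑ l ∈ s, f l).app U v = ∑ l ∈ s, (f l).app U v := by
  classical
  induction s using Finset.induction_on with
  | empty => rfl
  | insert a s ha ih =>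
    rw [Finset.sum_insert ha, Finset.sum_insert ha, Scheme.Modules.Hom.add_app, ← ih]
    rfl

theorem eq_sum_coproj {α : Type} [DecidableEq α] [Fintype α] (F : X.Modules) (U : X.Opens)
    (v : Γ(∐ fun _ : α => F, U)) :
    v = ∑ l, (Sigma.ι (fun _ : α => F) l).app U ((coproj F l).app U v) := by
  have h := congrArg (fun f : (∐ fun _ : α => F) ⟶ _ => f.app U v) (sum_coproj F (α := α))
  rw [app_finset_sum] at h
  exact h.symm

theorem span_ι {α : Type} [DecidableEq α] [Fintype α] (F : X.Modules) (U : X.Opens) (g : Γ(F, U))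
    (hg : ∀ v : Γ(F, U), ∃ c : Γ(X, U), c • g = v) :
    Submodule.span Γ(X, U) (Set.range fun l => (Sigma.ι (fun _ : α => F) l).app U g) = ⊤ := by
  refine eq_top_iff.2 fun v _ => ?_
  rw [eq_sum_coproj F U v]
  refine Submodule.sum_mem _ fun l _ => ?_
  obtain ⟨c, hc⟩ := hg ((coproj F l).app U v)
  rw [← hc, Scheme.Modules.Hom.app_smul]
  exact Submodule.smul_mem _ _ (Submodule.subset_span ⟨l, rfl⟩)

/-- The sections of a morphism, as a linear map. -/
def appLin {M N : X.Modules} (f : M ⟶ N) (U : X.Opens) : Γ(M, U) →ₗ[Γ(X, U)] Γ(N, U) where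
  toFun v := f.app U v
  map_add' := map_add (f.app U).hom
  map_smul' r v := Scheme.Modules.Hom.app_smul f r v

/-- A section of `O` as a function. -/
def fnLin (U : X.Opens) : Γ(Coh.structureModule X, U) ≃ₗ[Γ(X, U)] Γ(X, U) where
  toFun v := OmegaSh.fnSect X U v
  map_add' := map_add _
  map_smul' _ _ := rfl
  invFun r := r
  left_inv _ := rfl
  right_inv _ := rfl

variable {m : ℕ} {S T : X.Modules} (φ : S ⟶ FlatMod.freeMod X m) (ψ : T ⟶ Coh.structureModule X)

/-- The coordinates of a presentation. -/
def coord (U : X.Opens) : Γ(FlatMod.freeMod X m, U) →ₗ[Γ(X, U)] (Fin m → Γ(X, U)) :=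
  LinearMap.pi fun l => (fnLin U).toLinearMap ∘ₗ appLin (coproj (Coh.structureModule X) l) U

theorem coord_bijective (U : X.Opens) : Function.Bijective (coord (X := X) (m := m) U) := by
  refine ⟨(injective_iff_map_eq_zero _).2 fun v hv => ?_, fun c => ?_⟩
  · rw [eq_sum_coproj (Coh.structureModule X) U v]
    refine Finset.sum_eq_zero fun l _ => ?_
    rw [show (coproj (Coh.structureModule X) l).app U v = 0 from congrFun hv l, map_zero]
  · refine ⟨∑ l, (Sigma.ι (fun _ : Fin m => Coh.structureModule X) l).app U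
      (show Γ(Coh.structureModule X, U) from c l), funext fun t => ?_⟩
    show OmegaSh.fnSect X U ((coproj (Coh.structureModule X) t).app U (∑ l,
      (Sigma.ι (fun _ : Fin m => Coh.structureModule X) l).app U (show Γ(Coh.structureModule X, U) from c l))) = c t
    rw [map_sum, map_sum, Finset.sum_eq_single t]
    · exact congrArg (fun f : Coh.structureModule X ⟶ Coh.structureModule X => OmegaSh.fnSect X U
        (f.app U (show Γ(Coh.structureModule X, U) from c t))) ((ι_coproj _ t t).trans (if_pos rfl))
    · intro l _ hl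
      exact (congrArg (fun f : Coh.structureModule X ⟶ Coh.structureModule X => OmegaSh.fnSect X U
        (f.app U (show Γ(Coh.structureModule X, U) from c l))) ((ι_coproj _ l t).trans (if_neg hl))).trans
          (map_zero _)
    · simp

theorem exists_preimage {A B D : X.Modules} (f : A ⟶ B) (g : B ⟶ D) (w : f ≫ g = 0)
    (hex : (ShortComplex.mk f g w).Exact) (hA : Coh.IsQCoh A) (hB : Coh.IsQCoh B) (hD : Coh.IsQCoh D)
    {U : X.Opens} (hU : IsAffineOpen U) (b : Γ(B, U)) (hb : g.app U b = 0) : ∃ a, f.app U a = b := by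
  haveI : Epi (kernel.lift g f w) := hex.epi_kernelLift
  obtain ⟨z, hz⟩ := QCoh.exists_kernel_lift g U b hb
  obtain ⟨a, ha⟩ := QCoh.app_surjective_of_epi hA (QCoh.isQCoh_kernel hB hD g) (kernel.lift g f w) hU z
  exact ⟨a, ((congrArg (fun q : A ⟶ B => q.app U a) (kernel.lift_ι g f w)).symm.trans (congrArg ((kernel.ι g).app U) ha)).trans hz⟩

theorem fitt_eq_range (hS : Coh.IsQCoh S) (hF : Coh.IsCoh (FlatMod.freeMod X m))
    (hC : Coh.IsQCoh (cokernel φ)) {U : X.Opens} (hU : IsAffineOpen U)
    {ι κ : Type} (s : ι → Γ(S, U)) (hs : Submodule.span Γ(X, U) (Set.range s) = ⊤)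
    (t : κ → Γ(T, U)) (ht : Submodule.span Γ(X, U) (Set.range t) = ⊤) (col : κ → Fin m → ι)
    (hcol : Function.Surjective col)
    (hψ : ∀ a, OmegaSh.fnSect X U (ψ.app U (t a)) =
      (Matrix.of fun l b => coord U (φ.app U (s (col a b))) l).det) :
    Set.range (fun v : Γ(T, U) => OmegaSh.fnSect X U (ψ.app U v)) =
      ↑((Fitt.sheafIdeal (cokernel φ) 0).ideal ⟨U, hU⟩) := by
  rw [FittX.sheafIdeal_ideal hC (QCoh.isCoh_cokernel hS hF φ).2 0 ⟨U, hU⟩]
  let π := cokernel.π φ
  let e := LinearEquiv.ofBijective (coord (X := X) (m := m) U) (coord_bijective U)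
  let p : (Fin m → Γ(X, U)) →ₗ[Γ(X, U)] Γ(cokernel φ, U) := appLin π U ∘ₗ e.symm.toLinearMap
  have hp : Function.Surjective p :=
    (QCoh.app_surjective_of_epi hF.1 hC π hU).comp e.symm.surjective
  let x : Fin m → Γ(cokernel φ, U) := fun l => p (Pi.single l 1)
  have hx : Submodule.span Γ(X, U) (Set.range x) = ⊤ := by
    have h1 := (Pi.basisFun Γ(X, U) (Fin m)).span_eq
    rw [show Set.range x = p '' Set.range (Pi.basisFun Γ(X, U) (Fin m)) by
      rw [← Set.range_comp]; exact congrArg Set.range (funext fun l => by simp [x]), Submodule.span_image, h1,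
      Submodule.map_top, LinearMap.range_eq_top.2 hp]
  have hrel : FittX.rel (R := Γ(X, U)) x = Submodule.span Γ(X, U) (Set.range fun i => coord U (φ.app U (s i))) := by
    have hlc : ∀ c, Fintype.linearCombination Γ(X, U) x c = p c := fun c => by
      rw [Fintype.linearCombination_apply]
      conv_rhs => rw [pi_eq_sum_univ c]
      rw [map_sum]
      refine Finset.sum_congr rfl fun l _ => ?_
      rw [← map_smul]
      refine congrArg p (congrArg (c l • ·) (funext fun j => ?_))
      by_cases h : l = j
      · subst h; simp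
      · simp [h, Ne.symm h]
    apply le_antisymm
    · intro c hc
      have hc' : π.app U (e.symm c) = 0 := (hlc c).symm.trans hc
      have hex : (ShortComplex.mk φ π (cokernel.condition φ)).Exact := ShortComplex.exact_cokernel φ
      obtain ⟨v, hv⟩ := exists_preimage φ π (cokernel.condition φ) hex hS hF.1 hC hU (e.symm c) hc'
      have hvs : v ∈ Submodule.span Γ(X, U) (Set.range s) := hs ▸ trivial
      have hce : c = coord U (φ.app U v) := by rw [hv]; exact (e.apply_symm_apply c).symm
      rw [hce]
      have h2 := Submodule.mem_map_of_mem (f := coord U ∘ₗ appLin φ U) hvs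
      rw [← Submodule.span_image, ← Set.range_comp] at h2
      exact h2
    · rw [Submodule.span_le]
      rintro _ ⟨i, rfl⟩
      show Fintype.linearCombination Γ(X, U) x _ = 0
      rw [hlc]
      show π.app U (e.symm (e (φ.app U (s i)))) = 0
      rw [e.symm_apply_apply]
      exact congrArg (fun f : S ⟶ cokernel φ => f.app U (s i)) (cokernel.condition φ)
  rw [FittX.ideal_eq_minors x hx 0, Nat.sub_zero, hrel]
  let Ψ : Γ(T, U) →ₗ[Γ(X, U)] Γ(X, U) := (fnLin U).toLinearMap ∘ₗ appLin ψ U
  show (LinearMap.range Ψ : Set Γ(X, U)) = _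
  refine congrArg SetLike.coe (le_antisymm ?_ ?_)
  · rw [LinearMap.range_eq_map, ← ht, Submodule.map_span, Submodule.span_le]
    rintro _ ⟨_, ⟨a, rfl⟩, rfl⟩
    show OmegaSh.fnSect X U (ψ.app U (t a)) ∈ FittX.minors m _
    rw [hψ, ← Matrix.det_transpose]
    exact FittX.minor_mem (fun l => (LinearMap.proj l : Module.Dual Γ(X, U) (Fin m → Γ(X, U))))
      (z := fun b => coord U (φ.app U (s (col a b)))) fun b => Submodule.subset_span ⟨_, rfl⟩
  · refine FittX.minors_le_of_span (FittX.span_proj m) fun f hf z hz => ?_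
    choose l hl using hf
    choose i hi using hz
    obtain ⟨a, ha⟩ := hcol i
    by_cases hinj : Function.Injective l
    · obtain ⟨σ, rfl⟩ : ∃ σ : Equiv.Perm (Fin m), ⇑σ = l :=
        ⟨Equiv.ofBijective l (Finite.injective_iff_bijective.1 hinj), rfl⟩
      have hd : FittX.minor f z = Equiv.Perm.sign σ • OmegaSh.fnSect X U (ψ.app U (t a)) := by
        rw [hψ, ← Matrix.det_transpose (Matrix.of fun l b => coord U (φ.app U (s (col a b))) l), FittX.minor,
          show (Matrix.of fun b a => f a (z b)) =
            (Matrix.of fun l b => coord U (φ.app U (s (col a b))) l).transpose.submatrix id σ by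
            funext b c
            simp only [Matrix.of_apply, Matrix.submatrix_apply, Matrix.transpose_apply, id_eq, ← hl c, ← hi b, ha]
            rfl, Matrix.det_permute', Units.smul_def, zsmul_eq_mul]
      rw [hd, Units.smul_def]
      have hm : OmegaSh.fnSect X U (ψ.app U (t a)) ∈ LinearMap.range Ψ := ⟨t a, rfl⟩
      exact zsmul_mem hm _
    · obtain ⟨c, c', hcc, hne⟩ := Function.not_injective_iff.1 hinj
      rw [FittX.minor, Matrix.det_zero_of_column_eq hne fun b => by
        simp only [Matrix.of_apply, ← hl c, ← hl c', hcc]]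
      exact zero_mem _

end Groth.Agent.EagonN
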