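import Groth.Agent.EagonN.Mat
import Groth.Agent.EagonN.Fitting
import Groth.Agent.Lib.PnDualSymbol
import Groth.Agent.PnCoh.Finite.TwistInv

/-!
# Values of sections as fractions
-/

set_option autoImplicit false
set_option linter.style.haveILetI false
set_option linter.unusedSectionVars false
set_option backward.isDefEq.respectTransparency false
set_option backward.isDefEq.respectTransparency.types false
set_option synthInstance.maxHeartbeats 400000
set_option maxHeartbeats 1600000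

universe u

open CategoryTheory CategoryTheory.Limits AlgebraicGeometry TopologicalSpace Opposite

noncomputable section

namespace Groth.Agent.EagonN

open Groth.Agent Groth.Agent.PnCoh.Finite

section Val

variable {R A : Type u} [CommRing R] [CommRing A] [Algebra R A] {𝒜 : ℕ → Submodule R A} [GradedAlgebra 𝒜]

/-- The value of a function at a point, in the localization. -/
def evalAt {U : (Proj 𝒜).Opens} (x : U) : Γ(Proj 𝒜, U) →+* Twist.Loc 𝒜 x.1 where
  toFun c := ((show Twist.O (𝒜 := 𝒜) (op U) from c).1 x).val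
  map_one' := HomogeneousLocalization.val_one
  map_zero' := HomogeneousLocalization.val_zero
  map_mul' _ _ := HomogeneousLocalization.val_mul _ _
  map_add' _ _ := HomogeneousLocalization.val_add _ _

theorem evalAt_ext {U : (Proj 𝒜).Opens} {c c' : Γ(Proj 𝒜, U)} (h : ∀ x : U, evalAt x c = evalAt x c') : c = c' :=
  Subtype.ext (funext fun x => HomogeneousLocalization.val_injective _ (h x))

theorem evalAt_res {U V : (Proj 𝒜).Opens} (i : V ≤ U) (c : Γ(Proj 𝒜, U)) (x : V) :
    evalAt x ((Proj 𝒜).presheaf.map (homOfLE i).op c) = evalAt (⟨x.1, i x.2⟩ : U) c := rfl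

theorem isUnit_evalAt {U : (Proj 𝒜).Opens} (c : Γ(Proj 𝒜, U)) (x : U) (hx : x.1 ∈ (Proj 𝒜).basicOpen c) :
    IsUnit (evalAt x c) := by
  have h := (RingedSpace.isUnit_res_basicOpen (Proj 𝒜).toRingedSpace c).map
    (evalAt (U := (Proj 𝒜).basicOpen c) ⟨x.1, hx⟩)
  exact (evalAt_res ((Proj 𝒜).basicOpen_le c) c ⟨x.1, hx⟩) ▸ h

theorem oneHom_apply (U : (Proj 𝒜).Opens) (c : Γ(Coh.structureModule (Proj 𝒜), U)) (x : U) :
    (((oneHom.app U c : Twist.sectN (𝒜 := 𝒜) 0 (op U))).1 x).1 =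
      evalAt x (OmegaSh.fnSect (Proj 𝒜) U c) := by
  have h : ((oneHom.app U c : Twist.sectN (𝒜 := 𝒜) 0 (op U))).1 x =
      ((show Twist.O (𝒜 := 𝒜) (op U) from c).1 x) • (oneSect (U := U)).1 x := rfl
  rw [h, Twist.coe_smul_val]
  show _ * Localization.mk (1 : A) _ = _
  rw [show (Localization.mk (1 : A) _ : Twist.Loc 𝒜 x.1) = 1 from by
    rw [← Localization.mk_one, Localization.mk_eq_mk_iff, Localization.r_iff_exists]; exact ⟨1, by simp⟩, mul_one]
  rfl

/-- The frame of `O(-e)` where a linear form does not vanish. -/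
def frame {f : A} (hf : f ∈ 𝒜 1) (e : ℕ) {U : (Proj 𝒜).Opens} (hU : TwistX.NonVan (𝒜 := 𝒜) f U) :
    TwistX.UnitFrac (𝒜 := 𝒜) (-(e : ℤ)) U where
  i := 0
  j := e
  num := 1
  den := f ^ e
  num_mem := SetLike.GradedOne.one_mem
  den_mem := by simpa using SetLike.pow_mem_graded e hf
  deg := by simp
  num_ne := fun x h => x.1.isPrime.ne_top ((Ideal.eq_top_iff_one _).mpr h)
  den_ne := fun x => TwistX.notMem_pow (hU x) e

/-- The section of the frame. -/
def gen {f : A} (hf : f ∈ 𝒜 1) (e : ℕ) {U : (Proj 𝒜).Opens} (hU : TwistX.NonVan (𝒜 := 𝒜) f U) :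
    Γ(Twist.twist 𝒜 (-(e : ℤ)), U) :=
  TwistX.fracSect (frame hf e hU)

theorem gen_spans {f : A} (hf : f ∈ 𝒜 1) (e : ℕ) {U : (Proj 𝒜).Opens} (hU : TwistX.NonVan (𝒜 := 𝒜) f U)
    (v : Γ(Twist.twist 𝒜 (-(e : ℤ)), U)) : ∃ c : Γ(Proj 𝒜, U), c • gen hf e hU = v :=
  let ⟨c, hc⟩ := (TwistX.trivMap_bijective (frame hf e hU)).2 v
  ⟨c, hc⟩

theorem gen_val {f : A} (hf : f ∈ 𝒜 1) (e : ℕ) {U : (Proj 𝒜).Opens} (hU : TwistX.NonVan (𝒜 := 𝒜) f U) (x : U) :
    (((gen hf e hU : Twist.sectN (𝒜 := 𝒜) (-(e : ℤ)) (op U))).1 x).1 =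
      Localization.mk 1 ⟨f, hU x⟩ ^ e := by
  show Localization.mk (1 : A) _ = _
  rw [Localization.mk_pow, Localization.mk_eq_mk_iff, Localization.r_iff_exists]
  exact ⟨1, by simp [frame]⟩


/-- The value of a map `O(-e) ⟶ O` on the frame. -/
theorem evalAt_gen {f : A} (hf : f ∈ 𝒜 1) (e : ℕ) {U : (Proj 𝒜).Opens} (hU : TwistX.NonVan (𝒜 := 𝒜) f U)
    {p : A} (hp : p ∈ 𝒜 e) (h : (0 : ℤ) = -(e : ℤ) + (e : ℤ))
    (η : Twist.twist 𝒜 (-(e : ℤ)) ⟶ Coh.structureModule (Proj 𝒜)) (hη : η ≫ oneHom = mh e p (-(e : ℤ)) 0 h)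
    (x : U) : evalAt x (OmegaSh.fnSect (Proj 𝒜) U (η.app U (gen hf e hU))) =
      PnDual.fracOne x.1 p * Localization.mk 1 ⟨f, hU x⟩ ^ e := by
  rw [← oneHom_apply]
  refine (congrArg (fun q : Twist.twist 𝒜 (-(e : ℤ)) ⟶ Twist.twist 𝒜 0 =>
    ((q.app U (gen hf e hU) : Twist.sectN (𝒜 := 𝒜) 0 (op U)).1 x).1) hη).trans ?_
  rw [mh_apply hp, gen_val, mul_comm]

theorem fracOne_prime {x : ProjectiveSpectrum 𝒜} {p : A} (h : IsUnit (PnDual.fracOne x p)) :
    p ∉ x.asHomogeneousIdeal := by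
  rw [PnDual.fracOne, Localization.mk_one_eq_algebraMap] at h
  exact (IsLocalization.AtPrime.isUnit_to_map_iff (Localization.AtPrime x.asHomogeneousIdeal.toIdeal)
    x.asHomogeneousIdeal.toIdeal p).1 h

/-- `a ↦ a / 1` as a ring map. -/
def fracHom (x : ProjectiveSpectrum 𝒜) : A →+* Twist.Loc 𝒜 x := algebraMap A _

theorem fracOne_eq (x : ProjectiveSpectrum 𝒜) (a : A) : PnDual.fracOne x a = fracHom x a :=
  Localization.mk_one_eq_algebraMap a

end Val

section Linear

open MvPolynomial Groth.Agent.PnCoh Groth.Agent.PnDual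

attribute [local instance] MvPolynomial.gradedAlgebra

variable {ι : Type} [Fintype ι] [Nonempty ι] {R : Type u} [CommRing R] {a b : ℤ} {e : ℕ}

/-- Maps of twisting sheaves in nonnegative degree are multiplication by polynomials. -/
theorem exists_eq_mh (hc : 1 < Fintype.card ι ∨ a ≤ b) (h : b = a + (e : ℤ)) (η : O' ι R a ⟶ O' ι R b) :
    ∃ p : MvPolynomial ι R, p ∈ homogeneousSubmodule ι R e ∧
      η = mh (𝒜 := homogeneousSubmodule ι R) e p a b h := by
  classical
  let s := (symb η).coeff.support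
  let tn : Expo ι → (ι →₀ ℕ) := fun z => z.mapRange Int.toNat rfl
  have htn : ∀ z ∈ s, castExpo ι (tn z) = z := fun z hz => Finsupp.ext fun i => by
    rw [castExpo_apply, Finsupp.mapRange_apply]
    exact Int.toNat_of_nonneg (symb_nonneg η hc z (Finsupp.mem_support_iff.1 hz) i)
  refine ⟨∑ z ∈ s, monomial (tn z) ((symb η).coeff z), ?_, ?_⟩
  · refine Submodule.sum_mem _ fun z hz => (mem_homogeneousSubmodule _ _).2 (isHomogeneous_monomial _ ?_)
    have h1 := (symb_supp η z (Finsupp.mem_support_iff.1 hz)).1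
    rw [Finsupp.sum_fintype _ _ fun _ => rfl] at h1
    have h2 : ((∑ i, tn z i : ℕ) : ℤ) = e := by
      push_cast
      rw [show (e : ℤ) = b - a by omega, ← h1]
      exact Finset.sum_congr rfl fun i _ => by
        conv_rhs => rw [← htn z hz, castExpo_apply]
    have hdeg : (tn z).degree = ∑ i, tn z i := Finsupp.degree_eq_sum _
    exact hdeg.trans (by exact_mod_cast h2)
  · refine symb_injective ?_
    rw [mh, dif_pos]
    swap
    · refine Submodule.sum_mem _ fun z hz => (mem_homogeneousSubmodule _ _).2 (isHomogeneous_monomial _ ?_)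
      have h1 := (symb_supp η z (Finsupp.mem_support_iff.1 hz)).1
      rw [Finsupp.sum_fintype _ _ fun _ => rfl] at h1
      have h2 : ((∑ i, tn z i : ℕ) : ℤ) = e := by
        push_cast
        rw [show (e : ℤ) = b - a by omega, ← h1]
        exact Finset.sum_congr rfl fun i _ => by
          conv_rhs => rw [← htn z hz, castExpo_apply]
      exact (Finsupp.degree_eq_sum _).trans (by exact_mod_cast h2)
    rw [symb_mulHom, map_sum]
    conv_lhs => rw [← AddMonoidAlgebra.sum_coeff_single (symb η)]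
    rw [Finsupp.sum]
    exact Finset.sum_congr rfl fun z hz => by rw [toLaur_monomial, htn z hz]

end Linear

end Groth.Agent.EagonN
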