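import Groth.Agent.EagonN.Strand
import Groth.Agent.EagonN.Values
import Groth.Agent.Lib.RegComplex
import Groth.Agent.Lib.RegEpiPn
import Groth.Agent.KZ.Localization
import Groth.Agent.SeesawX.Basic
import Groth.Agent.QCoh.DevissageSum

/-!
# Regularity of determinantal ideals of linear matrices
-/

set_option autoImplicit false
set_option linter.style.haveILetI false
set_option linter.unusedSectionVars false
set_option backward.isDefEq.respectTransparency false
set_option backward.isDefEq.respectTransparency.types false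
set_option synthInstance.maxHeartbeats 400000
set_option maxHeartbeats 1600000

universe u

open CategoryTheory CategoryTheory.Limits AlgebraicGeometry TopologicalSpace Opposite
open Groth.Agent.PnCoh.Finite Groth.Agent.ProjRegular

noncomputable section

namespace Groth.Agent.EagonN

open Groth.Agent

variable (k : Type u) [Field k] (r : ℕ)

local notation "PP" => Proj (CohB1.polyGrading r k)
local notation "Ptw" => Twist.twist (CohB1.polyGrading r k)
local notation "Poly" => MvPolynomial (Fin (r + 1)) k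

theorem isCoh_sum (α : Type) [Fintype α] (e : ℤ) : Coh.IsCoh (∐ fun _ : α => Ptw e) := by
  haveI : IsNoetherian (Proj (CohB1.polyGrading r k)) := Proj16.isNoetherian_proj _
  exact SheafHomX.isCoh_of_iso (Sigma.whiskerEquiv (f := fun _ : Fin (Fintype.card α) => Ptw e)
    (g := fun _ : α => Ptw e) (Fintype.equivFin α).symm fun _ => Iso.refl _) (RegEpi.isCoh_sigma_twist _ e)

variable [(Proj (CohB1.polyGrading r k)).Over (Spec (CommRingCat.of k))]

theorem subsingleton_sum (α : Type) [Fintype α] (e t : ℤ) (q : ℕ) (hq : 1 ≤ q) (he : e + t = -(q : ℤ)) :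
    Subsingleton (Coh.HH PP ((RegEpi.twF t).obj (∐ fun _ : α => Ptw e)) q) := by
  let σ : (∐ fun _ : α => Ptw e) ≅ ∐ fun _ : Fin (Fintype.card α) => Ptw e :=
    Sigma.whiskerEquiv (f := fun _ : α => Ptw e) (g := fun _ : Fin (Fintype.card α) => Ptw e)
      (Fintype.equivFin α) fun _ => Iso.refl _
  obtain ⟨ψ⟩ := RegEpi.twF_sigma_iso (k := k) (n := r) (Fintype.card α) e t
  exact QCoh.subsingleton_HH_of_iso ((RegEpi.twF t).mapIso σ ≪≫ ψ).symm q
    (RegEpi.subsingleton_HH_sigma_twist _ _ q (by omega) (by omega))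

theorem regular_step {A B C : (Proj (CohB1.polyGrading r k)).Modules} (hA : Coh.IsCoh A) (hB : Coh.IsCoh B)
    (hC : Coh.IsCoh C) (f : A ⟶ B) (g : B ⟶ C) (w : f ≫ g = 0)
    (hH : topologicalKrullDim (CohB1.support (ShortComplex.mk f g w).homology) ≤ 1) (t : ℤ) (q : ℕ) (hq : 1 ≤ q)
    (hBv : Subsingleton (Coh.HH PP ((RegEpi.twF t).obj B) q))
    (hAv : Subsingleton (Coh.HH PP ((RegEpi.twF t).obj (Abelian.image f)) (q + 1))) :
    Subsingleton (Coh.HH PP ((RegEpi.twF t).obj (Abelian.image g)) q) := by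
  refine RegComplex.subsingleton_tw_X₃ (coords k r) coords_mem coords_cover (RegComplex.shortExact_image g) t q hBv ?_
  obtain ⟨H, i, p, hip, hex, ⟨e⟩⟩ := RegComplex.exists_homology_seq f g w
  refine RegComplex.subsingleton_tw_X₂ (coords k r) coords_mem coords_cover hex t (q + 1) hAv ?_
  exact QCoh.subsingleton_HH_of_iso ((RegEpi.twF t).mapIso e) (q + 1)
    (RegComplex.subsingleton_small (RegComplex.isCoh_homology (S := ShortComplex.mk f g w) hA hB hC) hH t (q + 1) (by omega))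

section Complex

variable {m n : ℕ} (L : Fin m → Fin n → MvPolynomial (Fin (r + 1)) k)
  (hL : ∀ l j, L l j ∈ CohB1.polyGrading r k 1)

/-- The terms. -/
abbrev obj (m n p : ℕ) : (Proj (CohB1.polyGrading r k)).Modules :=
  ∐ fun _ : J m n p => Ptw (-((m + p : ℕ) : ℤ))

theorem deg_dd (m p : ℕ) : -((m + p : ℕ) : ℤ) = -((m + (p + 1) : ℕ) : ℤ) + ((1 : ℕ) : ℤ) := by
  push_cast; ring

theorem deg_aug (m : ℕ) : (0 : ℤ) = -((m + 0 : ℕ) : ℤ) + (m : ℤ) := by push_cast; ring

/-- The differentials. -/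
def dd (p : ℕ) : obj k r m n (p + 1) ⟶ obj k r m n p :=
  matHom (𝒜 := CohB1.polyGrading r k) 1 (mat (dl L p)) _ _ (deg_dd m p)

/-- `O(0) ⟶ O`. -/
def unitInv : Ptw 0 ⟶ Coh.structureModule (Proj (CohB1.polyGrading r k)) :=
  haveI := isIso_oneHom (coords k r) coords_mem coords_cover
  inv oneHom

theorem unitInv_oneHom : unitInv k r ≫ oneHom = 𝟙 _ :=
  haveI := isIso_oneHom (coords k r) coords_mem coords_cover
  IsIso.inv_hom_id _

/-- The augmentation by the minors. -/
def aug : obj k r m n 0 ⟶ Coh.structureModule (Proj (CohB1.polyGrading r k)) :=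
  matHom (𝒜 := CohB1.polyGrading r k) m (mat (εl L)) (-((m + 0 : ℕ) : ℤ)) 0 (deg_aug m) ≫
    Sigma.desc fun _ : Unit => unitInv k r

theorem ι_aug (i : J m n 0) :
    Sigma.ι (fun _ : J m n 0 => Ptw (-((m + 0 : ℕ) : ℤ))) i ≫ aug k r L ≫ oneHom =
      mh (𝒜 := CohB1.polyGrading r k) m ((Matrix.of fun a b => L a (i.2.get b)).det) _ 0 (deg_aug m) := by
  rw [aug, ← Category.assoc, ← Category.assoc, ι_matHom]
  simp only [Finset.univ_unique, Finset.sum_singleton, Category.assoc]
  rw [← Category.assoc (Sigma.ι _ _), Sigma.ι_desc, unitInv_oneHom, Category.comp_id]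
  congr 1
  exact εl_single i

include hL in
theorem dd_dd (p : ℕ) : dd k r L (p + 1) ≫ dd k r L p = 0 := by
  rw [dd, dd, matHom_comp (e'' := 2) (mat_dl_mem _ hL (p + 1)) (mat_dl_mem _ hL p) _ _ rfl,
    matHom_congr rfl (show mat (dl L (p + 1)) * mat (dl L p) = 0 by rw [← mat_comp, dl_dl, mat_zero]), matHom_zero]

include hL in
theorem dd_aug : dd k r L 0 ≫ aug k r L = 0 := by
  rw [dd, aug, ← Category.assoc, matHom_comp (e'' := 1 + m) (mat_dl_mem _ hL 0) (mat_εl_mem _ hL) _ _ rfl,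
    matHom_congr rfl (show mat (dl L 0) * mat (εl L) = 0 by rw [← mat_comp, εl_dl, mat_zero]), matHom_zero, zero_comp]

variable (A : Fin m → Fin n)

/-- The minor of a choice of columns. -/
def minor : Poly := (Matrix.of fun a b => L a (A b)).det

include hL in
theorem minor_mem : minor k r L A ∈ CohB1.polyGrading r k m := by
  have h := det_mem (CohB1.polyGrading r k) (M := Matrix.of fun a b => L a (A b)) (fun _ => 1) fun a b => hL a _
  simp only [Finset.sum_const, Finset.card_univ, Fintype.card_fin, smul_eq_mul, mul_one] at h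
  exact h

include hL in
theorem exact_dd (hm : 0 < m) (p : ℕ) :
    ((ShortComplex.mk (dd k r L (p + 1)) (dd k r L p) (dd_dd k r L hL p)).map
      (Scheme.Modules.restrictFunctor (Proj.basicOpen (CohB1.polyGrading r k) (minor k r L A ^ m)).ι)).Exact := by
  have hd : minor k r L A ∈ CohB1.polyGrading r k (1 + (m - 1)) := by
    rw [show 1 + (m - 1) = m by omega]; exact minor_mem k r L hL A
  have hp : minor k r L A ^ m ∈ CohB1.polyGrading r k (m * m) := by
    have := SetLike.pow_mem_graded m (minor_mem k r L hL A); rwa [smul_eq_mul] at this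
  have hle : m * (1 + (m - 1)) - 1 = m * m - 1 := by rw [show 1 + (m - 1) = m by omega]
  have hmm : 1 ≤ m * m := Nat.mul_pos hm hm
  have hmh : ∀ q, IsHomM (CohB1.polyGrading r k) (m * m - 1) (mat (hl L (adjG L A) (minor k r L A) q)) := fun q i j =>
    hle ▸ mat_hl_mem (CohB1.polyGrading r k) hL (fun i j => adjG_mem (CohB1.polyGrading r k) hL A i j) hd q i j
  exact exact_restrict_matHom (fun i j => mat_dl_mem _ hL (p + 1) i j) (fun i j => mat_dl_mem _ hL p i j)
    (hmh (p + 1)) (hmh p) hp (by omega) (by omega)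
    (by
      rw [← mat_comp, ← mat_comp, ← mat_add, ← mat_smul_id,
        homotopy_succ (L := L) (d := minor k r L A) (sum_adjG A) p])
    (deg_dd m (p + 1)) (deg_dd m p) (dd k r L p) (𝟙 _) (Category.comp_id _) (dd_dd k r L hL p)

include hL in
theorem exact_aug (hm : 0 < m) :
    ((ShortComplex.mk (dd k r L 0) (aug k r L) (dd_aug k r L hL)).map
      (Scheme.Modules.restrictFunctor (Proj.basicOpen (CohB1.polyGrading r k) (minor k r L A ^ m)).ι)).Exact := by
  have hd : minor k r L A ∈ CohB1.polyGrading r k (1 + (m - 1)) := by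
    rw [show 1 + (m - 1) = m by omega]; exact minor_mem k r L hL A
  have hp : minor k r L A ^ m ∈ CohB1.polyGrading r k (m * m) := by
    have := SetLike.pow_mem_graded m (minor_mem k r L hL A); rwa [smul_eq_mul] at this
  have hle : m * (1 + (m - 1)) - 1 = m * m - 1 := by rw [show 1 + (m - 1) = m by omega]
  have hmm : 1 ≤ m * m := Nat.mul_pos hm hm
  have hgA := fun i j => adjG_mem (CohB1.polyGrading r k) hL A i j
  have hmh : IsHomM (CohB1.polyGrading r k) (m * m - 1) (mat (hl L (adjG L A) (minor k r L A) 0)) := fun i j =>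
    hle ▸ mat_hl_mem (CohB1.polyGrading r k) hL hgA hd 0 i j
  have hmul : m * m = m + m * (m - 1) := by
    obtain ⟨c, rfl⟩ : ∃ c, m = c + 1 := ⟨m - 1, by omega⟩
    rw [Nat.add_sub_cancel, Nat.mul_succ, Nat.add_comm]
  have hu : Sigma.desc (fun _ : Unit => unitInv k r) ≫ oneHom ≫ Sigma.ι (fun _ : Unit => Ptw 0) () = 𝟙 _ :=
    Sigma.hom_ext _ _ fun u => by
      rw [← Category.assoc, Sigma.ι_desc, ← Category.assoc, unitInv_oneHom]
      simp
  exact exact_restrict_matHom (fun i j => mat_dl_mem _ hL 0 i j) (fun i j => mat_εl_mem _ hL i j)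
    hmh (fun u j => mat_gl_mem (CohB1.polyGrading r k) hgA u j) hp (by omega) hmul
    (by
      rw [← mat_comp, ← mat_comp, ← mat_add, ← mat_smul_id,
        homotopy_aug (L := L) (d := minor k r L A) (sum_adjG A) hm])
    (deg_dd m 0) (deg_aug m) (aug k r L) (oneHom ≫ Sigma.ι (fun _ : Unit => Ptw 0) ())
    (by rw [aug, Category.assoc, hu, Category.comp_id]) (dd_aug k r L hL)

end Complex

theorem notMem_support_homology {S : ShortComplex (Proj (CohB1.polyGrading r k)).Modules}
    (hS : Coh.IsCoh S.homology) (U : (Proj (CohB1.polyGrading r k)).Opens)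
    (h : (S.map (Scheme.Modules.restrictFunctor U.ι)).Exact) :
    Disjoint (CohB1.support S.homology) (U : Set (Proj (CohB1.polyGrading r k))) := by
  rw [ShortComplex.exact_iff_isZero_homology] at h
  have hz : IsZero ((Scheme.Modules.restrictFunctor U.ι).obj S.homology) :=
    h.of_iso (S.mapHomologyIso (Scheme.Modules.restrictFunctor U.ι)).symm
  exact Set.disjoint_left.2 fun x hx hxU => KZ.Localization.isZero_restrict_iff hS hz hx hxU

section Main

/-- `O(-1)^n`. -/
abbrev Src (n : ℕ) : (Proj (CohB1.polyGrading r k)).Modules := ∐ fun _ : Fin n => Ptw (-((1 : ℕ) : ℤ))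

theorem deg_one : (0 : ℤ) = -((1 : ℕ) : ℤ) + ((1 : ℕ) : ℤ) := (neg_add_cancel _).symm

variable {m n : ℕ} (φ : Src k r n ⟶ FlatMod.freeMod (Proj (CohB1.polyGrading r k)) m)

theorem exists_linear (_hr : 1 ≤ r) : ∃ L : Fin m → Fin n → Poly, ∃ _ : ∀ l j, L l j ∈ CohB1.polyGrading r k 1,
    ∀ l j, (Sigma.ι (fun _ : Fin n => Ptw (-((1 : ℕ) : ℤ))) j ≫ φ ≫
      coproj (Coh.structureModule (Proj (CohB1.polyGrading r k))) l) ≫ oneHom =
        mh (𝒜 := CohB1.polyGrading r k) 1 (L l j) _ 0 deg_one := by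
  choose L hL he using fun (l : Fin m) (j : Fin n) => exists_eq_mh (ι := Fin (r + 1)) (R := k) (e := 1)
    (a := -((1 : ℕ) : ℤ)) (b := 0) (Or.inl (by simp; omega)) deg_one
    ((Sigma.ι (fun _ : Fin n => Ptw (-((1 : ℕ) : ℤ))) j ≫ φ ≫
      coproj (Coh.structureModule (Proj (CohB1.polyGrading r k))) l) ≫ oneHom)
  exact ⟨L, hL, he⟩

variable (L : Fin m → Fin n → MvPolynomial (Fin (r + 1)) k) (hL : ∀ l j, L l j ∈ CohB1.polyGrading r k 1)
  (hφ : ∀ l j, (Sigma.ι (fun _ : Fin n => Twist.twist (CohB1.polyGrading r k) (-((1 : ℕ) : ℤ))) j ≫ φ ≫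
      coproj (Coh.structureModule (Proj (CohB1.polyGrading r k))) l) ≫ oneHom =
        mh (𝒜 := CohB1.polyGrading r k) 1 (L l j) _ 0 deg_one)

theorem isCoh_free : Coh.IsCoh (FlatMod.freeMod (Proj (CohB1.polyGrading r k)) m) := by
  haveI : IsNoetherian (Proj (CohB1.polyGrading r k)) := Proj16.isNoetherian_proj _
  obtain ⟨φ⟩ := RegEpi.unitIso (k := k) (n := r)
  exact SheafHomX.isCoh_of_iso (Sigma.mapIso fun _ : Fin m => φ.symm) (isCoh_sum k r (Fin m) 0)

/-- The section of the frame of a summand. -/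
def genS {α : Type} (e : ℕ) (i : Fin (r + 1)) {U : (Proj (CohB1.polyGrading r k)).Opens}
    (hU : TwistX.NonVan (𝒜 := CohB1.polyGrading r k) (MvPolynomial.X i) U) (a : α) :
    Γ(∐ fun _ : α => Ptw (-(e : ℤ)), U) :=
  (Sigma.ι (fun _ : α => Ptw (-(e : ℤ))) a).app U (gen (MvPolynomial.isHomogeneous_X k i) e hU)

include hL hφ in
theorem value_aug (i : Fin (r + 1)) {U : (Proj (CohB1.polyGrading r k)).Opens}
    (hU : TwistX.NonVan (𝒜 := CohB1.polyGrading r k) (MvPolynomial.X i) U) (a : J m n 0) :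
    OmegaSh.fnSect (Proj (CohB1.polyGrading r k)) U ((aug k r L).app U (genS k r (m + 0) i hU a)) =
      (Matrix.of fun l b => coord U (φ.app U (genS k r 1 i hU (a.2.get b))) l).det := by
  refine evalAt_ext fun x => ?_
  have hf := MvPolynomial.isHomogeneous_X k i
  have hdet : minor k r L a.2.get ∈ CohB1.polyGrading r k (m + 0) := minor_mem k r L hL a.2.get
  refine (evalAt_gen hf (m + 0) hU hdet (deg_aug m)
    (Sigma.ι (fun _ : J m n 0 => Ptw (-((m + 0 : ℕ) : ℤ))) a ≫ aug k r L)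
    ((Category.assoc _ _ _).trans (ι_aug k r L a)) x).trans ?_
  rw [RingHom.map_det, fracOne_eq, minor, RingHom.map_det, mul_comm]
  set u : Twist.Loc (CohB1.polyGrading r k) x.1 := Localization.mk 1 ⟨MvPolynomial.X i, hU x⟩
  have hM : (evalAt x).mapMatrix (Matrix.of fun l b => coord U (φ.app U (genS k r 1 i hU (a.2.get b))) l) =
      u • (fracHom x.1).mapMatrix (Matrix.of fun l b => L l (a.2.get b)) := Matrix.ext fun l b => by
    refine (evalAt_gen hf 1 hU (hL l (a.2.get b)) deg_one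
      (Sigma.ι (fun _ : Fin n => Ptw (-((1 : ℕ) : ℤ))) (a.2.get b) ≫ φ ≫
        coproj (Coh.structureModule (Proj (CohB1.polyGrading r k))) l) (hφ l (a.2.get b)) x).trans ?_
    rw [fracOne_eq, pow_one, mul_comm]
    rfl
  refine Eq.trans ?_ ((congrArg Matrix.det hM).trans (Matrix.det_smul _ _)).symm
  rw [Fintype.card_fin]

include hL hφ in
theorem range_aug (i : Fin (r + 1)) {U : (Proj (CohB1.polyGrading r k)).Opens} (hUa : IsAffineOpen U)
    (hU : TwistX.NonVan (𝒜 := CohB1.polyGrading r k) (MvPolynomial.X i) U) :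
    Set.range (fun v : Γ(obj k r m n 0, U) => OmegaSh.fnSect (Proj (CohB1.polyGrading r k)) U ((aug k r L).app U v)) =
      ↑((Fitt.sheafIdeal (cokernel φ) 0).ideal ⟨U, hUa⟩) := by
  have hS := isCoh_sum k r (Fin n) (-((1 : ℕ) : ℤ))
  refine fitt_eq_range φ (aug k r L) hS.1 (isCoh_free k r) (QCoh.isQCoh_cokernel hS.1 (isCoh_free k r).1 φ) hUa
    (fun j => genS k r 1 i hU j) (span_ι _ U _ (gen_spans _ 1 hU))
    (fun a => genS k r (m + 0) i hU a) (span_ι _ U _ (gen_spans _ (m + 0) hU))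
    (fun a => a.2.get) (fun A => ?_) (value_aug k r φ L hL hφ i hU)
  exact ⟨(⟨0, Finset.Nat.mem_antidiagonalTuple.2 (by simp)⟩, List.Vector.ofFn A),
    funext fun b => List.Vector.get_ofFn A b⟩

theorem exists_mem_D (y : Proj (CohB1.polyGrading r k)) :
    ∃ i : Fin (r + 1), y ∈ PnCoh.Finite.D (CohB1.polyGrading r k) (MvPolynomial.X i) := by
  obtain ⟨j, hj⟩ := Opens.mem_iSup.1 ((coords_cover (k := k) (n := r)).ge (trivial : y ∈ (⊤ : Opens _)))
  exact ⟨j.down, hj⟩

include hL hφ in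
theorem exists_minor (y : Proj (CohB1.polyGrading r k))
    (hy : y ∉ (Fitt.sheafIdeal (cokernel φ) 0).support) :
    ∃ A : Fin m → Fin n, minor k r L A ∉ y.asHomogeneousIdeal := by
  obtain ⟨i, hyi⟩ := exists_mem_D k r y
  obtain ⟨_, ⟨U, hUa, rfl⟩, hyU, hUle⟩ :=
    (Proj (CohB1.polyGrading r k)).isBasis_affineOpens.exists_subset_of_mem_open
      (show y ∈ PnCoh.Finite.D (CohB1.polyGrading r k) (MvPolynomial.X i) from hyi) (PnCoh.Finite.D _ _).2
  have hU : TwistX.NonVan (𝒜 := CohB1.polyGrading r k) (MvPolynomial.X i) U := fun x => hUle x.2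
  have hUa' : IsAffineOpen U := hUa
  by_contra hc
  push Not at hc
  refine hy ((Scheme.IdealSheafData.mem_support_iff_of_mem (U := ⟨U, hUa'⟩) hyU).2 ?_)
  rw [Scheme.mem_zeroLocus_iff]
  intro c hcI hyc
  rw [SetLike.mem_coe, ← SetLike.mem_coe, ← range_aug k r φ L hL hφ i hUa' hU] at hcI
  obtain ⟨v, rfl⟩ := hcI
  let x : U := ⟨y, hyU⟩
  have hunit := isUnit_evalAt _ x hyc
  let M := (IsLocalRing.maximalIdeal (Twist.Loc (CohB1.polyGrading r k) y)).comap (evalAt x)
  let Ψ : Γ(obj k r m n 0, U) →ₗ[Γ(Proj (CohB1.polyGrading r k), U)] Γ(Proj (CohB1.polyGrading r k), U) :=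
    (fnLin U).toLinearMap ∘ₗ appLin (aug k r L) U
  have hle : LinearMap.range Ψ ≤ M := by
    rw [LinearMap.range_eq_map, ← span_ι (α := J m n 0) _ U _
      (gen_spans (MvPolynomial.isHomogeneous_X k i) (m + 0) hU), Submodule.map_span, Submodule.span_le]
    rintro _ ⟨_, ⟨a, rfl⟩, rfl⟩
    show evalAt x (OmegaSh.fnSect _ U ((aug k r L).app U (genS k r (m + 0) i hU a))) ∈ IsLocalRing.maximalIdeal _
    refine Eq.mpr (congrArg (fun z => z ∈ IsLocalRing.maximalIdeal _)
      (evalAt_gen (MvPolynomial.isHomogeneous_X k i) (m + 0) hU (minor_mem k r L hL a.2.get) (deg_aug m)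
        (Sigma.ι (fun _ : J m n 0 => Ptw (-((m + 0 : ℕ) : ℤ))) a ≫ aug k r L)
        ((Category.assoc _ _ _).trans (ι_aug k r L a)) x)) ?_
    refine Ideal.mul_mem_right _ _ ?_
    rw [fracOne_eq]
    exact (IsLocalization.AtPrime.to_map_mem_maximal_iff _ y.asHomogeneousIdeal.toIdeal _).2 (hc _)
  exact (IsLocalRing.mem_maximalIdeal _).1 (hle ⟨v, rfl⟩) hunit

include hL hφ in
theorem dim_homology 
    (hdim : topologicalKrullDim ((Fitt.sheafIdeal (cokernel φ) 0).support : Set (Proj (CohB1.polyGrading r k))) ≤ 1)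
    {S : ShortComplex (Proj (CohB1.polyGrading r k)).Modules} (hS : Coh.IsCoh S.homology)
    (h : ∀ A : Fin m → Fin n, (S.map (Scheme.Modules.restrictFunctor
      (Proj.basicOpen (CohB1.polyGrading r k) (minor k r L A ^ m)).ι)).Exact) :
    topologicalKrullDim (CohB1.support S.homology) ≤ 1 := by
  refine le_trans ?_ hdim
  have hsub : CohB1.support S.homology ⊆ ((Fitt.sheafIdeal (cokernel φ) 0).support : Set _) := fun y hy => by
    by_contra hc
    obtain ⟨A, hA⟩ := exists_minor k r φ L hL hφ y hc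
    exact Set.disjoint_left.1 (notMem_support_homology k r hS _ (h A)) hy
      (fun hmem => hA (y.isPrime.mem_of_pow_mem m hmem))
  exact Topology.IsInducing.topologicalKrullDim_le (f := Set.inclusion hsub)
    (Topology.IsEmbedding.inclusion _).isInducing

include hL hφ in
theorem subsingleton_dd (hm : 0 < m)
    (hdim : topologicalKrullDim ((Fitt.sheafIdeal (cokernel φ) 0).support : Set (Proj (CohB1.polyGrading r k))) ≤ 1) :
    ∀ (c q : ℕ), 1 ≤ q → r < q + c → ∀ p : ℕ,
      Subsingleton (Coh.HH PP ((RegEpi.twF (((m + p + 1 : ℕ) : ℤ) - q)).obj (Abelian.image (dd k r L p))) q)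
  | 0, q, _, h, p =>
    RegComplex.subsingleton_high (RegComplex.isCoh_image (isCoh_sum k r _ _) (isCoh_sum k r _ _) _) _ q (by omega)
  | c + 1, q, hq, h, p => by
    have hA := fun s => isCoh_sum k r (J m n s) (-((m + s : ℕ) : ℤ))
    refine regular_step k r (hA _) (hA _) (hA _) (dd k r L (p + 1)) (dd k r L p) (dd_dd k r L hL p) ?_ _ q hq
      (subsingleton_sum k r _ _ _ q hq (by push_cast; ring)) ?_
    · exact dim_homology k r φ L hL hφ hdim
        (RegComplex.isCoh_homology (S := ShortComplex.mk _ _ (dd_dd k r L hL p)) (hA _) (hA _) (hA _))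
        fun A => exact_dd k r L hL A hm p
    · have := subsingleton_dd hm hdim c (q + 1) (by omega) (by omega) (p + 1)
      rwa [show ((m + (p + 1) + 1 : ℕ) : ℤ) - ((q + 1 : ℕ) : ℤ) = ((m + p + 1 : ℕ) : ℤ) - q by push_cast; ring] at this

theorem isQCoh_O : Coh.IsCoh (Coh.structureModule (Proj (CohB1.polyGrading r k))) := by
  haveI : IsNoetherian (Proj (CohB1.polyGrading r k)) := Proj16.isNoetherian_proj _
  exact QCoh.isCoh_structureModule'

include hL hφ in
theorem nonempty_iso_idealMod :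
    Nonempty (Abelian.image (aug k r L (m := m) (n := n)) ≅ ClSub.idealMod (Fitt.sheafIdeal (cokernel φ) 0)) := by
  let f := aug k r L (m := m) (n := n)
  let I := Fitt.sheafIdeal (cokernel φ) 0
  let X := Proj (CohB1.polyGrading r k)
  have hobj := isCoh_sum k r (J m n 0) (-((m + 0 : ℕ) : ℤ))
  have hI := RegComplex.isCoh_image hobj (isQCoh_O k r) f
  have hrange : ∀ (A : X.Opens) (hA : IsAffineOpen A), (∃ i, A ≤ PnCoh.Finite.D (CohB1.polyGrading r k) (MvPolynomial.X i)) →
      Set.range (fun s : Γ(Abelian.image f, A) => OmegaSh.fnSect X A ((Abelian.image.ι f).app A s)) =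
        ↑(I.ideal ⟨A, hA⟩) := by
    rintro A hA ⟨i, hi⟩
    rw [← range_aug k r φ L hL hφ i hA (fun x => hi x.2)]
    have hfac : ∀ v, (Abelian.image.ι f).app A ((Abelian.factorThruImage f).app A v) = f.app A v := fun v =>
      congrArg (fun q : obj k r m n 0 ⟶ _ => q.app A v) (Abelian.image.fac f)
    ext c
    constructor
    · rintro ⟨s, rfl⟩
      obtain ⟨v, rfl⟩ := QCoh.app_surjective_of_epi hobj.1 hI.1 (Abelian.factorThruImage f) hA s
      exact ⟨v, congrArg (OmegaSh.fnSect X A) (hfac v).symm⟩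
    · rintro ⟨v, rfl⟩
      exact ⟨_, congrArg (OmegaSh.fnSect X A) (hfac v)⟩
  have hbasis : ∀ (W : X.Opens) (p : X), p ∈ W → ∃ (A : X.Opens), IsAffineOpen A ∧ p ∈ A ∧ A ≤ W ∧
      ∃ i, A ≤ PnCoh.Finite.D (CohB1.polyGrading r k) (MvPolynomial.X i) := by
    intro W p hp
    obtain ⟨i, hi⟩ := exists_mem_D k r p
    obtain ⟨_, ⟨A, hA, rfl⟩, hpA, hAW⟩ :=
      X.isBasis_affineOpens.exists_subset_of_mem_open (show p ∈ W ⊓ PnCoh.Finite.D _ _ from ⟨hp, hi⟩) (W ⊓ PnCoh.Finite.D _ _).2
    exact ⟨A, hA, hpA, fun z hz => (hAW hz).1, i, fun z hz => (hAW hz).2⟩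
  have hz : Abelian.image.ι f ≫ ClSub.toSubscheme I = 0 := by
    apply Scheme.Modules.hom_ext
    intro W
    ext s
    refine AModX.eq_of_locally (M := ClSub.quotMod I) _ _ fun p hp => ?_
    obtain ⟨A, hA, hpA, hAW, hi⟩ := hbasis W p hp
    refine ⟨A, hAW, hpA, ?_⟩
    rw [show AModX.res (ClSub.quotMod I) hAW ((0 : Abelian.image f ⟶ ClSub.quotMod I).app W s) = 0 from map_zero _,
      ← AModX.app_res]
    have hm : OmegaSh.fnSect X A ((Abelian.image.ι f).app A (AModX.res (Abelian.image f) hAW s)) ∈ I.ideal ⟨A, hA⟩ :=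
      (hrange A hA hi).le ⟨_, rfl⟩
    rw [← I.ker_subschemeι_app, RingHom.mem_ker] at hm
    exact hm
  let ψ : Abelian.image f ⟶ ClSub.idealMod I := kernel.lift _ _ hz
  have hψ : ψ ≫ ClSub.idealModι I = Abelian.image.ι f := kernel.lift_ι _ _ _
  let B : Set X.Opens := {A | IsAffineOpen A ∧ ∃ i, A ≤ PnCoh.Finite.D (CohB1.polyGrading r k) (MvPolynomial.X i)}
  have hB : TopologicalSpace.Opens.IsBasis B := TopologicalSpace.Opens.isBasis_iff_nbhd.2 fun {W p} hp =>
    let ⟨A, hA, hpA, hAW, hi⟩ := hbasis W p hp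
    ⟨A, ⟨hA, hi⟩, hpA, hAW⟩
  haveI : IsIso ψ := QCoh.isIso_of_isBasis ψ hB fun A hAB => by
    obtain ⟨hA, hi⟩ := hAB
    have key : ∀ s, OmegaSh.idealSect I A (ψ.app A s) = OmegaSh.fnSect X A ((Abelian.image.ι f).app A s) := fun s => by
      rw [OmegaSh.idealSect_apply, ← hψ]; rfl
    constructor
    · intro a b hab
      exact QCoh.app_injective (Abelian.image.ι f) A (by rw [← hψ]; exact congrArg ((ClSub.idealModι I).app A) hab)
    · intro t
      obtain ⟨s, hs⟩ := (hrange A hA hi).ge (OmegaLib.idealSect_mem I ⟨A, hA⟩ t)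
      exact ⟨s, OmegaLib.idealSect_injective I A ((key s).trans hs)⟩
  exact ⟨asIso ψ⟩

include hL hφ in
theorem regular_pos (hm : 0 < m)
    (hdim : topologicalKrullDim ((Fitt.sheafIdeal (cokernel φ) 0).support : Set (Proj (CohB1.polyGrading r k))) ≤ 1)
    (q : ℕ) (hq : 1 ≤ q) :
    Subsingleton (Coh.HH PP ((RegEpi.twF ((m : ℤ) - q)).obj (ClSub.idealMod (Fitt.sheafIdeal (cokernel φ) 0))) q) := by
  obtain ⟨e⟩ := nonempty_iso_idealMod k r φ L hL hφ
  refine QCoh.subsingleton_HH_of_iso ((RegEpi.twF ((m : ℤ) - q)).mapIso e) q ?_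
  have hA := fun s => isCoh_sum k r (J m n s) (-((m + s : ℕ) : ℤ))
  refine regular_step k r (hA _) (hA _) (isQCoh_O k r) (dd k r L 0) (aug k r L) (dd_aug k r L hL) ?_ _ q hq
    (subsingleton_sum k r _ _ _ q hq (by push_cast; ring)) ?_
  · exact dim_homology k r φ L hL hφ hdim
      (RegComplex.isCoh_homology (S := ShortComplex.mk _ _ (dd_aug k r L hL)) (hA _) (hA _) (isQCoh_O k r))
      fun A => exact_aug k r L hL A hm
  · have := subsingleton_dd k r φ L hL hφ hm hdim (r + 1) (q + 1) (by omega) (by omega) 0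
    rwa [show ((m + 0 + 1 : ℕ) : ℤ) - ((q + 1 : ℕ) : ℤ) = (m : ℤ) - q by push_cast; ring] at this

end Main

end Groth.Agent.EagonN
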