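import Groth.Agent.Lib.PnDualMul
import Groth.Agent.TwistX.Triv
import Mathlib.CategoryTheory.Abelian.Refinements

/-!
# Matrices of homogeneous elements as maps between sums of twisting sheaves
-/

set_option autoImplicit false
set_option linter.style.haveILetI false
set_option linter.unusedSectionVars false
set_option backward.isDefEq.respectTransparency false
set_option backward.isDefEq.respectTransparency.types false
set_option maxHeartbeats 1000000

universe u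

open CategoryTheory CategoryTheory.Limits AlgebraicGeometry TopologicalSpace Opposite

noncomputable section

namespace Groth.Agent.EagonN

open Groth.Agent

variable {R A : Type u} [CommRing R] [CommRing A] [Algebra R A] {𝒜 : ℕ → Submodule R A} [GradedAlgebra 𝒜]

theorem hom_ext_twist {d d' : ℤ} {φ ψ : Twist.twist 𝒜 d ⟶ Twist.twist 𝒜 d'}
    (h : ∀ (U : (Proj 𝒜).Opens) (s : Twist.sectN (𝒜 := 𝒜) d (op U)) (x : U),
      (((φ.app U s : Twist.sectN (𝒜 := 𝒜) d' (op U))).1 x).1 = (((ψ.app U s : Twist.sectN (𝒜 := 𝒜) d' (op U))).1 x).1) :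
    φ = ψ :=
  Scheme.Modules.hom_ext _ _ fun U => AddCommGrpCat.hom_ext (AddMonoidHom.ext fun s =>
    Subtype.ext (funext fun x => Subtype.ext (h U s x)))

open Classical in
/-- Multiplication by an element, zero unless it is homogeneous of degree `e`. -/
def mh (e : ℕ) (p : A) (d d' : ℤ) (h : d' = d + (e : ℤ)) : Twist.twist 𝒜 d ⟶ Twist.twist 𝒜 d' :=
  if hp : p ∈ 𝒜 e then PnDual.mulHom hp h else 0

theorem mh_apply {e : ℕ} {p : A} (hp : p ∈ 𝒜 e) {d d' : ℤ} (h : d' = d + (e : ℤ)) (U : (Proj 𝒜).Opens)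
    (s : Twist.sectN (𝒜 := 𝒜) d (op U)) (x : U) :
    (((mh e p d d' h).app U s : Twist.sectN (𝒜 := 𝒜) d' (op U)).1 x).1 = (s.1 x).1 * PnDual.fracOne x.1 p := by
  rw [mh, dif_pos hp]
  exact PnDual.mulFracSect_apply hp h s x

theorem fracOne_mul (x : ProjectiveSpectrum 𝒜) (a b : A) :
    PnDual.fracOne x (a * b) = PnDual.fracOne x a * PnDual.fracOne x b := by
  rw [PnDual.fracOne, PnDual.fracOne, PnDual.fracOne, Localization.mk_mul, one_mul]

theorem fracOne_add (x : ProjectiveSpectrum 𝒜) (a b : A) :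
    PnDual.fracOne x (a + b) = PnDual.fracOne x a + PnDual.fracOne x b := by
  rw [PnDual.fracOne, PnDual.fracOne, PnDual.fracOne, Localization.add_mk]
  simp [add_comm]

theorem mh_comp {e e' e'' : ℕ} {p q : A} (hp : p ∈ 𝒜 e) (hq : q ∈ 𝒜 e') {a b c : ℤ} (h : b = a + (e : ℤ))
    (h' : c = b + (e' : ℤ)) (he : e'' = e + e') :
    mh e p a b h ≫ mh e' q b c h' = mh (𝒜 := 𝒜) e'' (p * q) a c (by subst he; push_cast; omega) := by
  subst he
  refine hom_ext_twist fun U s x => ?_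
  refine Eq.trans (mh_apply hq h' U ((mh e p a b h).app U s) x) ?_
  rw [mh_apply hp h, mh_apply (SetLike.mul_mem_graded hp hq), fracOne_mul, mul_assoc]

theorem mh_add {e : ℕ} {p q : A} (hp : p ∈ 𝒜 e) (hq : q ∈ 𝒜 e) {a b : ℤ} (h : b = a + (e : ℤ)) :
    mh (𝒜 := 𝒜) e (p + q) a b h = mh e p a b h + mh e q a b h := by
  refine hom_ext_twist fun U s x => ?_
  rw [mh_apply (Submodule.add_mem _ hp hq) h, fracOne_add, mul_add]
  exact (congrArg₂ (· + ·) (mh_apply hp h U s x) (mh_apply hq h U s x)).symm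

theorem mh_zero {e : ℕ} {a b : ℤ} (h : b = a + (e : ℤ)) : mh (𝒜 := 𝒜) e 0 a b h = 0 := by
  have h1 := mh_add (Submodule.zero_mem (𝒜 e)) (Submodule.zero_mem (𝒜 e)) h
  rw [add_zero] at h1
  exact left_eq_add.1 h1

theorem mh_sum {e : ℕ} {a b : ℤ} (h : b = a + (e : ℤ)) {ι : Type*} (s : Finset ι) (p : ι → A)
    (hp : ∀ i, p i ∈ 𝒜 e) : mh (𝒜 := 𝒜) e (∑ i ∈ s, p i) a b h = ∑ i ∈ s, mh e (p i) a b h := by
  classical
  induction s using Finset.induction_on with
  | empty => simp [mh_zero]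
  | insert i s hi ih =>
    rw [Finset.sum_insert hi, Finset.sum_insert hi, mh_add (hp i) (Submodule.sum_mem _ fun j _ => hp j), ih]

section Mat

variable {α β γ : Type}

/-- All entries are homogeneous of degree `e`. -/
def IsHomM (𝒜 : ℕ → Submodule R A) (e : ℕ) (M : Matrix α β A) : Prop := ∀ i j, M i j ∈ 𝒜 e

/-- The map of sums of twisting sheaves of a matrix. -/
def matHom [Fintype β] (e : ℕ) (M : Matrix α β A) (a b : ℤ) (h : b = a + (e : ℤ)) :
    (∐ fun _ : α => Twist.twist 𝒜 a) ⟶ (∐ fun _ : β => Twist.twist 𝒜 b) :=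
  Sigma.desc fun i => ∑ j, mh e (M i j) a b h ≫ Sigma.ι (fun _ : β => Twist.twist 𝒜 b) j

theorem ι_matHom [Fintype β] (e : ℕ) (M : Matrix α β A) (a b : ℤ) (h : b = a + (e : ℤ)) (i : α) :
    Sigma.ι (fun _ : α => Twist.twist 𝒜 a) i ≫ matHom e M a b h =
      ∑ j, mh e (M i j) a b h ≫ Sigma.ι (fun _ : β => Twist.twist 𝒜 b) j := by
  rw [matHom, Sigma.ι_desc]

theorem matHom_zero [Fintype β] (e : ℕ) (a b : ℤ) (h : b = a + (e : ℤ)) :
    matHom (𝒜 := 𝒜) e (0 : Matrix α β A) a b h = 0 :=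
  Sigma.hom_ext _ _ fun i => by rw [ι_matHom, comp_zero]; simp [mh_zero]

theorem matHom_add [Fintype β] {e : ℕ} {M N : Matrix α β A} (hM : IsHomM 𝒜 e M) (hN : IsHomM 𝒜 e N)
    {a b : ℤ} (h : b = a + (e : ℤ)) :
    matHom (𝒜 := 𝒜) e (M + N) a b h = matHom e M a b h + matHom e N a b h :=
  Sigma.hom_ext _ _ fun i => by
    rw [ι_matHom, Preadditive.comp_add, ι_matHom, ι_matHom, ← Finset.sum_add_distrib]
    exact Finset.sum_congr rfl fun j _ => by rw [Matrix.add_apply, mh_add (hM i j) (hN i j), Preadditive.add_comp]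

theorem matHom_comp [Fintype β] [Fintype γ] {e e' e'' : ℕ} {M : Matrix α β A} {N : Matrix β γ A}
    (hM : IsHomM 𝒜 e M) (hN : IsHomM 𝒜 e' N) {a b c : ℤ} (h : b = a + (e : ℤ)) (h' : c = b + (e' : ℤ))
    (he : e'' = e + e') :
    matHom e M a b h ≫ matHom e' N b c h' = matHom (𝒜 := 𝒜) e'' (M * N) a c (by subst he; push_cast; omega) := by
  subst he
  refine Sigma.hom_ext _ _ fun i => ?_
  rw [← Category.assoc, ι_matHom, ι_matHom, Preadditive.sum_comp]
  simp only [Category.assoc, ι_matHom, Preadditive.comp_sum]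
  rw [Finset.sum_comm]
  refine Finset.sum_congr rfl fun l _ => ?_
  rw [Matrix.mul_apply, mh_sum _ _ _ (fun j => SetLike.mul_mem_graded (hM i j) (hN j l)), Preadditive.sum_comp]
  exact Finset.sum_congr rfl fun j _ => by rw [← Category.assoc, mh_comp (hM i j) (hN j l) h h' rfl]

theorem matHom_congr [Fintype β] {e e' : ℕ} {M N : Matrix α β A} {a b : ℤ} (he : e = e') (hM : M = N)
    (h : b = a + (e : ℤ)) : matHom (𝒜 := 𝒜) e M a b h = matHom e' N a b (he ▸ h) := by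
  subst he; subst hM; rfl

theorem matHom_scalar [Fintype α] [DecidableEq α] (e : ℕ) (p : A) (a b : ℤ) (h : b = a + (e : ℤ)) :
    matHom (𝒜 := 𝒜) e (Matrix.scalar α p) a b h = Limits.Sigma.map fun _ : α => mh e p a b h :=
  Sigma.hom_ext _ _ fun i => by
    rw [ι_matHom, Finset.sum_eq_single i]
    · simp
    · intro j _ hj
      simp [Matrix.scalar_apply, Matrix.diagonal_apply_ne _ (Ne.symm hj), mh_zero]
    · simp

theorem isHomM_mul [Fintype β] {e e' e'' : ℕ} {M : Matrix α β A} {N : Matrix β γ A} (hM : IsHomM 𝒜 e M)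
    (hN : IsHomM 𝒜 e' N) (he : e'' = e + e') : IsHomM 𝒜 e'' (M * N) := fun i l => by
  subst he
  rw [Matrix.mul_apply]
  exact Submodule.sum_mem _ fun j _ => SetLike.mul_mem_graded (hM i j) (hN j l)

theorem isHomM_scalar [DecidableEq α] [Fintype α] {e : ℕ} {p : A} (hp : p ∈ 𝒜 e) :
    IsHomM 𝒜 e (Matrix.scalar α p) := fun i j => by
  by_cases h : i = j
  · subst h; simpa [Matrix.scalar_apply] using hp
  · simp [Matrix.scalar_apply, Matrix.diagonal_apply_ne _ h]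

end Mat

section Iso

/-- Multiplication by an element is bijective where it does not vanish. -/
theorem bijective_mh_app {e : ℕ} {p : A} (hp : p ∈ 𝒜 e) {a b : ℤ} (h : b = a + (e : ℤ)) (U : (Proj 𝒜).Opens)
    (hU : ∀ x ∈ U, p ∉ x.asHomogeneousIdeal) : Function.Bijective ((mh (𝒜 := 𝒜) e p a b h).app U) := by
  have key : ∀ x : U, PnDual.fracOne x.1 p * Localization.mk 1 ⟨p, hU x.1 x.2⟩ = 1 := fun x => by
    rw [PnDual.fracOne, Localization.mk_mul, ← Localization.mk_one, Localization.mk_eq_mk_iff,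
      Localization.r_iff_exists]
    exact ⟨1, by simp⟩
  refine ⟨fun s t hst => Subtype.ext (funext fun x => Subtype.ext ?_), fun f => ?_⟩
  · have h' := congrArg (fun z : Twist.sectN (𝒜 := 𝒜) b (op U) => (z.1 x).1 * Localization.mk 1 ⟨p, hU x.1 x.2⟩) hst
    rw [mh_apply hp h U s x, mh_apply hp h U t x, mul_assoc, key x, mul_one, mul_assoc, key x, mul_one] at h'
    exact h'
  · let f' : Twist.sectN (𝒜 := 𝒜) b (op U) := f
    have hm : ∀ x : U, (f'.1 x).1 * Localization.mk 1 ⟨p, hU x.1 x.2⟩ ∈ Twist.twistAt 𝒜 a x.1 := fun x => by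
      rw [show a = b + -(e : ℤ) by omega]
      exact PnCoh.Finite.mul_mem_twistAt (f'.1 x).2
        (Submodule.subset_span ⟨0, e, ⟨1, SetLike.GradedOne.one_mem⟩, ⟨p, hp⟩, hU x.1 x.2, by simp, rfl⟩)
    let s : Twist.sectN (𝒜 := 𝒜) a (op U) := ⟨fun x => ⟨_, hm x⟩, fun x => by
      obtain ⟨V, hxV, iV, i, j, q, t, nt, hij, w⟩ := f'.2 x
      refine ⟨V, hxV, iV, i, j + e, q, ⟨t.1 * p, SetLike.mul_mem_graded t.2 hp⟩,
        fun y => TwistX.mul_notMem (nt y) (hU _ (iV y).2), ?_, fun y => ?_⟩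
      · rcases hij with h' | h'
        · exact Or.inl (by push_cast; omega)
        · exact Or.inr h'
      · show (f'.1 (iV y)).1 * Localization.mk 1 _ = _
        rw [show (f'.1 (iV y)).1 = _ from w y, Localization.mk_mul, mul_one]
        rfl⟩
    refine ⟨s, Subtype.ext (funext fun x => Subtype.ext ?_)⟩
    refine (mh_apply hp h U s x).trans ?_
    show (f'.1 x).1 * Localization.mk 1 _ * PnDual.fracOne x.1 p = _
    rw [mul_assoc, mul_comm (Localization.mk 1 _), key x, mul_one]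

theorem isIso_restrict_of_bijective {X : Scheme.{u}} {M N : X.Modules} (f : M ⟶ N)
    (U : X.Opens) (h : ∀ W : X.Opens, W ≤ U → Function.Bijective (f.app W)) :
    IsIso ((Scheme.Modules.restrictFunctor U.ι).map f) :=
  Scheme.Modules.Hom.isIso_iff_isIso_app.2 fun W =>
    (ConcreteCategory.isIso_iff_bijective _).2 (h _ (U.ι_image_le W))

theorem isIso_mh_restrict {e : ℕ} {p : A} (hp : p ∈ 𝒜 e) {a b : ℤ} (h : b = a + (e : ℤ)) :
    IsIso ((Scheme.Modules.restrictFunctor (Proj.basicOpen 𝒜 p).ι).map (mh (𝒜 := 𝒜) e p a b h)) := by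
  exact isIso_restrict_of_bijective _ _ fun W hW => bijective_mh_app hp h W fun x hx => hW hx

end Iso

section Exact

variable {C D : Type*} [Category C] [Category D]

theorem isIso_map_sigma (F : C ⥤ D) [F.IsLeftAdjoint] {α : Type} [HasCoproductsOfShape α C]
    [HasCoproductsOfShape α D] {X Y : α → C} (f : ∀ i, X i ⟶ Y i)
    (h : ∀ i, IsIso (F.map (f i))) : IsIso (F.map (Limits.Sigma.map f)) := by
  haveI : PreservesColimitsOfShape (Discrete α) F :=
    (Adjunction.ofIsLeftAdjoint F).leftAdjoint_preservesColimits.preservesColimitsOfShape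
  haveI := h
  haveI : IsIso (Limits.Sigma.map fun i => F.map (f i)) :=
    (inferInstance : IsIso (Limits.Sigma.mapIso fun i => asIso (F.map (f i))).hom)
  have hn : Limits.Sigma.map (fun i => F.map (f i)) ≫ sigmaComparison F Y =
      sigmaComparison F X ≫ F.map (Limits.Sigma.map f) := Limits.Sigma.hom_ext _ _ fun i => by
    rw [Limits.Sigma.ι_map_assoc, ι_comp_sigmaComparison, ι_comp_sigmaComparison_assoc, ← F.map_comp, ← F.map_comp,
      Limits.Sigma.ι_map]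
  have : F.map (Limits.Sigma.map f) = inv (sigmaComparison F X) ≫ Limits.Sigma.map (fun i => F.map (f i)) ≫
      sigmaComparison F Y := by rw [hn, IsIso.inv_hom_id_assoc]
  rw [this]
  infer_instance

variable [Abelian C]

/-- Exactness from a homotopy to a shifted copy. -/
theorem exact_of_homotopy (S : ShortComplex C) {Y₁ Y₂ : C} (Φ₁ : S.X₁ ⟶ Y₁) (Φ₂ : S.X₂ ⟶ Y₂) [IsIso Φ₁] [IsIso Φ₂]
    (f' : Y₁ ⟶ Y₂) (hc : Φ₁ ≫ f' = S.f ≫ Φ₂) (h : S.X₂ ⟶ Y₁) (h' : S.X₃ ⟶ Y₂)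
    (e : Φ₂ = h ≫ f' + S.g ≫ h') : S.Exact := by
  refine S.exact_iff_exact_up_to_refinements.2 fun A x hx => ⟨A, 𝟙 A, inferInstance, x ≫ h ≫ inv Φ₁, ?_⟩
  rw [Category.id_comp]
  symm
  apply (cancel_mono Φ₂).1
  rw [Category.assoc, Category.assoc, Category.assoc, ← hc, IsIso.inv_hom_id_assoc, e, Preadditive.comp_add,
    reassoc_of% hx, zero_comp, add_zero]

end Exact

section Restrict

variable {α β γ : Type}

/-- A scalar is invertible where it does not vanish. -/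
theorem isIso_scalar_restrict [Fintype α] [DecidableEq α] {e : ℕ} {p : A} (hp : p ∈ 𝒜 e) {a b : ℤ}
    (h : b = a + (e : ℤ)) :
    IsIso ((Scheme.Modules.restrictFunctor (Proj.basicOpen 𝒜 p).ι).map
      (matHom (𝒜 := 𝒜) e (Matrix.scalar α p) a b h)) := by
  rw [matHom_scalar]
  haveI := (Scheme.Modules.restrictAdjunction (Proj.basicOpen 𝒜 p).ι).isLeftAdjoint
  exact isIso_map_sigma _ _ fun _ => isIso_mh_restrict hp h

/-- Exactness, where a scalar does not vanish, of matrices with a homotopy to that scalar. -/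
theorem exact_restrict_matHom [Fintype α] [DecidableEq α] [Fintype β] [DecidableEq β] [Fintype γ] {e₁ e₂ E E₁ E₂ : ℕ}
    {D₁ : Matrix α β A} {D₂ : Matrix β γ A} {H₁ : Matrix β α A} {H₂ : Matrix γ β A} {p : A}
    (hD₁ : IsHomM 𝒜 e₁ D₁) (hD₂ : IsHomM 𝒜 e₂ D₂) (hH₁ : IsHomM 𝒜 E₁ H₁) (hH₂ : IsHomM 𝒜 E₂ H₂) (hp : p ∈ 𝒜 E)
    (he₁ : E = E₁ + e₁) (he₂ : E = e₂ + E₂) (hom : Matrix.scalar β p = H₁ * D₁ + D₂ * H₂)
    {a₁ a₂ a₃ : ℤ} (h₁ : a₂ = a₁ + (e₁ : ℤ)) (h₂ : a₃ = a₂ + (e₂ : ℤ))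
    {Z : (Proj 𝒜).Modules} (g : (∐ fun _ : β => Twist.twist 𝒜 a₂) ⟶ Z) (v : Z ⟶ ∐ fun _ : γ => Twist.twist 𝒜 a₃)
    (hg : g ≫ v = matHom e₂ D₂ a₂ a₃ h₂) (w : matHom e₁ D₁ a₁ a₂ h₁ ≫ g = 0) :
    ((ShortComplex.mk (matHom e₁ D₁ a₁ a₂ h₁) g w).map
      (Scheme.Modules.restrictFunctor (Proj.basicOpen 𝒜 p).ι)).Exact := by
  let F := Scheme.Modules.restrictFunctor (Proj.basicOpen 𝒜 p).ι
  haveI := isIso_scalar_restrict (α := α) hp (a := a₁) (b := a₁ + (E : ℤ)) rfl
  haveI := isIso_scalar_restrict (α := β) hp (a := a₂) (b := a₂ + (E : ℤ)) rfl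
  have h₁' : a₁ + (E : ℤ) = a₂ + (E₁ : ℤ) := by subst he₁; push_cast; omega
  have h₂' : a₂ + (E : ℤ) = a₃ + (E₂ : ℤ) := by subst he₂; push_cast; omega
  refine exact_of_homotopy _ (F.map (matHom E (Matrix.scalar α p) a₁ (a₁ + E) rfl))
    (F.map (matHom E (Matrix.scalar β p) a₂ (a₂ + E) rfl))
    (F.map (matHom e₁ D₁ (a₁ + E) (a₂ + E) (by omega))) ?_
    (F.map (matHom E₁ H₁ a₂ (a₁ + E) h₁')) (F.map (v ≫ matHom E₂ H₂ a₃ (a₂ + E) h₂')) ?_
  · show F.map _ ≫ F.map _ = F.map (matHom e₁ D₁ a₁ a₂ h₁) ≫ F.map _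
    rw [← F.map_comp, ← F.map_comp, matHom_comp (e'' := E + e₁) (isHomM_scalar hp) hD₁ _ _ rfl,
      matHom_comp (e'' := E + e₁) hD₁ (isHomM_scalar hp) _ _ (Nat.add_comm _ _)]
    refine congrArg F.map (matHom_congr rfl (Matrix.ext fun i j => ?_) _)
    simp [Matrix.scalar_apply, Matrix.diagonal_mul, Matrix.mul_diagonal, mul_comm]
  · show F.map _ = F.map _ ≫ F.map _ + F.map g ≫ F.map _
    rw [← F.map_comp, ← F.map_comp, ← F.map_add, reassoc_of% hg, matHom_comp (e'' := E) hH₁ hD₁ _ _ he₁,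
      matHom_comp (e'' := E) hD₂ hH₂ _ _ he₂,
      ← matHom_add (isHomM_mul hH₁ hD₁ he₁) (isHomM_mul hD₂ hH₂ he₂)]
    exact congrArg F.map (matHom_congr rfl hom _)

end Restrict

end Groth.Agent.EagonN
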