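import Groth.Agent.EagonN.Alg

/-!
# The finite strands as matrices of homogeneous entries
-/

set_option autoImplicit false
set_option linter.unusedSectionVars false
set_option linter.style.haveILetI false

universe u

noncomputable section

namespace Groth.Agent.EagonN

variable {R : Type u} [CommRing R] {m n : ℕ}

/-- The indices of the strand in degree `p`. -/
abbrev J (m n p : ℕ) : Type :=
  {a : Fin m → ℕ // a ∈ Finset.Nat.antidiagonalTuple m p} × List.Vector (Fin n) (m + p)

/-- Extension by zero. -/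
def ext (p : ℕ) : (J m n p → R) →ₗ[R] Ch R m n where
  toFun c a w := if h : a ∈ Finset.Nat.antidiagonalTuple m p ∧ w.length = m + p then c (⟨a, h.1⟩, ⟨w, h.2⟩) else 0
  map_add' c c' := funext fun a => funext fun w => by
    simp only [Pi.add_apply]
    split <;> simp
  map_smul' r c := funext fun a => funext fun w => by
    simp only [Pi.smul_apply, RingHom.id_apply]
    split <;> simp

/-- Restriction. -/
def res (p : ℕ) : Ch R m n →ₗ[R] (J m n p → R) where
  toFun x j := x j.1.1 j.2.1
  map_add' _ _ := rfl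
  map_smul' _ _ := rfl

theorem supp_ext (p : ℕ) (c : J m n p → R) : Supp p (m + p) (ext p c) := fun a w h => by
  show dite _ _ _ = 0
  rw [dif_neg fun h' => h ⟨Finset.Nat.mem_antidiagonalTuple.1 h'.1, h'.2⟩]

theorem res_ext (p : ℕ) (c : J m n p → R) : res p (ext p c) = c := funext fun j => by
  show dite _ _ _ = c j
  rw [dif_pos ⟨j.1.2, j.2.2⟩]
  rfl

theorem ext_res {p : ℕ} {x : Ch R m n} (h : Supp p (m + p) x) : ext p (res p x) = x :=
  funext fun a => funext fun w => by
    show dite _ _ _ = x a w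
    split_ifs with h'
    · rfl
    · exact (h a w fun hh => h' ⟨Finset.Nat.mem_antidiagonalTuple.2 hh.1, hh.2⟩).symm

/-- The matrix of a linear map, rows indexed by the source. -/
def mat {α β : Type} [DecidableEq α] (f : (α → R) →ₗ[R] (β → R)) : Matrix α β R :=
  fun i j => f (Pi.single i 1) j

theorem mat_comp {α β γ : Type} [DecidableEq α] [DecidableEq β] [Fintype β] (f : (α → R) →ₗ[R] (β → R))
    (g : (β → R) →ₗ[R] (γ → R)) : mat (g ∘ₗ f) = mat f * mat g := by
  funext i l
  rw [Matrix.mul_apply]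
  show g (f (Pi.single i 1)) l = _
  conv_lhs => rw [g.pi_apply_eq_sum_univ (f (Pi.single i 1))]
  rw [Finset.sum_apply]
  refine Finset.sum_congr rfl fun j _ => ?_
  rw [Pi.smul_apply, smul_eq_mul]
  refine congrArg₂ (· * ·) rfl (congrArg (fun v => g v l) (funext fun t => ?_))
  by_cases h : j = t
  · subst h; simp
  · simp [h, Ne.symm h]

theorem mat_add {α β : Type} [DecidableEq α] (f g : (α → R) →ₗ[R] (β → R)) : mat (f + g) = mat f + mat g := rfl

theorem mat_zero {α β : Type} [DecidableEq α] : mat (0 : (α → R) →ₗ[R] (β → R)) = 0 := rfl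

theorem mat_smul_id {α : Type} [DecidableEq α] [Fintype α] (r : R) :
    mat (r • (LinearMap.id : (α → R) →ₗ[R] (α → R))) = Matrix.scalar α r := by
  funext i j
  show r * (Pi.single i (1 : R) : α → R) j = _
  by_cases h : i = j
  · subst h; simp [Matrix.scalar_apply]
  · simp [Matrix.scalar_apply, Matrix.diagonal_apply_ne _ h, Pi.single_eq_of_ne (Ne.symm h)]

variable (L : Fin m → Fin n → R)

/-- The differential of the strand. -/
def dl (p : ℕ) : (J m n (p + 1) → R) →ₗ[R] (J m n p → R) := res p ∘ₗ δ L ∘ₗ ext (p + 1)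

/-- The augmentation of the strand. -/
def εl : (J m n 0 → R) →ₗ[R] (Unit → R) where
  toFun c _ := ε L (ext 0 c)
  map_add' c c' := funext fun _ => by simp [ε]
  map_smul' r c := funext fun _ => by simp [ε]

variable (g : Fin m → Fin n → R) (d : R)

/-- The homotopy of the strand. -/
def hl (p : ℕ) : (J m n p → R) →ₗ[R] (J m n (p + 1) → R) :=
  res (p + 1) ∘ₗ H L g d (List.finRange m) ∘ₗ ext p

/-- The last homotopy. -/
def gl : (Unit → R) →ₗ[R] (J m n 0 → R) where
  toFun c j := if j.1.1 = 0 then gg g (List.finRange m) (unit0 (c ())) j.2.1 else 0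
  map_add' c c' := funext fun j => by
    have h : unit0 (n := n) (c () + c' ()) = unit0 (c ()) + unit0 (c' ()) := funext fun w => by
      by_cases hw : w = [] <;> simp [unit0, hw]
    simp only [Pi.add_apply, h, map_add]
    split_ifs <;> simp
  map_smul' r c := funext fun j => by
    have h : unit0 (n := n) (r * c ()) = r • unit0 (c ()) := funext fun w => by
      by_cases hw : w = [] <;> simp [unit0, hw]
    simp only [Pi.smul_apply, smul_eq_mul, h, map_smul, RingHom.id_apply]
    split_ifs <;> simp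

theorem supp_δ_ext (p : ℕ) (c : J m n (p + 1) → R) : Supp p (m + p) (δ L (ext (p + 1) c)) :=
  supp_δ L (supp_ext (p + 1) c)

theorem dl_dl (p : ℕ) : dl L p ∘ₗ dl L (p + 1) = 0 := LinearMap.ext fun c => by
  show res p (δ L (ext (p + 1) (res (p + 1) (δ L (ext (p + 1 + 1) c))))) = 0
  rw [ext_res (supp_δ_ext L (p + 1) c), δ_δ, map_zero]

theorem εl_dl : εl L ∘ₗ dl L 0 = 0 := LinearMap.ext fun c => funext fun _ => by
  show ε L (ext 0 (res 0 (δ L (ext (0 + 1) c)))) = 0
  rw [ext_res (supp_δ_ext L 0 c), ε_δ]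

variable {L g d} (hg : ∀ l i, ∑ j, L l j * g i j = if l = i then d else 0)

include hg in
theorem homotopy_succ (p : ℕ) :
    d ^ m • LinearMap.id = dl L (p + 1) ∘ₗ hl L g d (p + 1) + hl L g d p ∘ₗ dl L p := LinearMap.ext fun c => by
  show d ^ m • c = res (p + 1) (δ L (ext (p + 1 + 1) (res (p + 1 + 1) (H L g d _ (ext (p + 1) c))))) +
    res (p + 1) (H L g d _ (ext p (res p (δ L (ext (p + 1) c)))))
  have hs : Supp (p + 1 + 1) (m + (p + 1 + 1)) (H L g d (List.finRange m) (ext (p + 1) c)) :=
    supp_H (q := m + p) L g d _ _ (supp_ext (p + 1) c)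
  rw [ext_res hs, ext_res (supp_δ_ext L p c), ← map_add, ← homotopy_pos L g d hg (supp_ext (p + 1) c), map_smul,
    res_ext]

include hg in
theorem homotopy_aug (hm : 0 < m) :
    d ^ m • LinearMap.id = dl L 0 ∘ₗ hl L g d 0 + gl g ∘ₗ εl L := LinearMap.ext fun c => by
  show d ^ m • c = res 0 (δ L (ext (0 + 1) (res (0 + 1) (H L g d _ (ext 0 c))))) + gl g (εl L c)
  have hs : Supp (0 + 1) (m + (0 + 1)) (H L g d (List.finRange m) (ext 0 c)) := by
    obtain ⟨q, rfl⟩ : ∃ q, m = q + 1 := ⟨m - 1, by omega⟩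
    exact supp_H (q := q) L g d _ _ (supp_ext 0 c)
  rw [ext_res hs]
  conv_lhs => rw [← res_ext 0 c, ← map_smul, homotopy_zero L g d hg (x := ext 0 c) (supp_ext 0 c), map_add]
  congr 1
  funext j
  show (if j.1.1 = 0 then gg g _ (unit0 (ε L (ext 0 c))) else 0) j.2.1 = _
  split_ifs with h
  · show _ = if j.1.1 = 0 then gg g _ _ j.2.1 else 0
    rw [if_pos h]; rfl
  · show _ = if j.1.1 = 0 then gg g _ _ j.2.1 else 0
    rw [if_neg h]; rfl

theorem εl_single (j : J m n 0) :
    εl L (Pi.single j 1) () = (Matrix.of fun a b => L a (j.2.get b)).det := by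
  refine Eq.trans ?_ (ε_wd L j.2.get)
  show ε L (ext 0 (Pi.single j 1)) = _
  congr 1
  funext a w
  have ha0 : ∀ a : Fin m → ℕ, a ∈ Finset.Nat.antidiagonalTuple m 0 ↔ a = 0 := fun a => by
    rw [Finset.Nat.mem_antidiagonalTuple]
    exact ⟨fun h => funext fun i => Finset.sum_eq_zero_iff.1 h i (Finset.mem_univ i), fun h => by simp [h]⟩
  have hw : List.ofFn j.2.get = j.2.1 := by
    apply List.ext_getElem
    · simp [j.2.2]
    · intro i h₁ h₂
      simp [List.Vector.get]
  show dite _ _ _ = _
  by_cases ha : a = 0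
  · subst ha
    rw [if_pos rfl, hw]
    by_cases hl : w = j.2.1
    · subst hl
      rw [dif_pos ⟨(ha0 0).2 rfl, j.2.2⟩, wd, if_pos rfl]
      rw [Pi.single_apply, if_pos]
      exact Prod.ext (Subtype.ext ((ha0 _).1 j.1.2).symm) rfl
    · rw [wd, if_neg hl]
      split_ifs with h
      · exact Pi.single_eq_of_ne (fun e => hl (congrArg (fun t : J m n 0 => t.2.1) e)) 1
      · rfl
  · rw [if_neg ha, dif_neg fun h => ha ((ha0 a).1 h.1)]
    rfl

section Homogeneous

variable {k : Type*} [CommRing k] [Algebra k R] (𝒜 : ℕ → Submodule k R) [SetLike.GradedMonoid 𝒜]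

theorem homC_single (p : ℕ) (i : J m n p) : HomC 𝒜 0 (ext p (Pi.single i (1 : R))) := fun a w => by
  show dite _ _ _ ∈ _
  split_ifs
  · rw [Pi.single_apply]
    split_ifs
    · exact SetLike.one_mem_graded 𝒜
    · exact Submodule.zero_mem _
  · exact Submodule.zero_mem _

theorem det_mem {M : Matrix (Fin m) (Fin m) R} (e : Fin m → ℕ) (h : ∀ i j, M i j ∈ 𝒜 (e i)) :
    M.det ∈ 𝒜 (∑ i, e i) := by
  rw [← Matrix.det_transpose, Matrix.det_apply]
  refine Submodule.sum_mem _ fun σ _ => ?_
  have hp : ∏ i, M.transpose (σ i) i ∈ 𝒜 (∑ i, e i) :=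
    SetLike.prod_mem_graded (A := 𝒜) e _ fun i _ => h i (σ i)
  rcases Int.units_eq_one_or (Equiv.Perm.sign σ) with hs | hs <;> rw [hs]
  · rwa [one_smul]
  · rw [Units.neg_smul, one_smul]; exact Submodule.neg_mem _ hp

variable (hL : ∀ l j, L l j ∈ 𝒜 1)

include hL in
theorem mat_dl_mem (p : ℕ) (i : J m n (p + 1)) (j : J m n p) : mat (dl L p) i j ∈ 𝒜 1 :=
  homC_δ L 𝒜 hL (homC_single 𝒜 (p + 1) i) _ _

include hL in
theorem mat_εl_mem (i : J m n 0) (u : Unit) : mat (εl L) i u ∈ 𝒜 m := by
  cases u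
  rw [show mat (εl L) i () = _ from εl_single i]
  have h := det_mem 𝒜 (M := Matrix.of fun a b => L a (i.2.get b)) (fun _ => 1) fun a b => hL a _
  simpa using h

variable {c : ℕ} (hgc : ∀ i j, g i j ∈ 𝒜 c) (hd : d ∈ 𝒜 (1 + c))

include hL hgc hd in
theorem mat_hl_mem (p : ℕ) (i : J m n p) (j : J m n (p + 1)) : mat (hl L g d p) i j ∈ 𝒜 (m * (1 + c) - 1) := by
  have h := homC_H L g d 𝒜 hL hgc hd (List.finRange m) 0 _ (homC_single 𝒜 p i) j.1.1 j.2.1
  rwa [List.length_finRange, Nat.add_zero] at h

include hgc in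
theorem mat_gl_mem (u : Unit) (j : J m n 0) : mat (gl g) u j ∈ 𝒜 (m * c) := by
  show (if j.1.1 = 0 then gg g (List.finRange m) (unit0 ((Pi.single u (1 : R) : Unit → R) ())) j.2.1 else 0) ∈ _
  split_ifs
  · have h := homW_gg g 𝒜 hgc (List.finRange m) 0 (unit0 ((Pi.single u (1 : R) : Unit → R) ()))
      (fun w => by
        rw [Pi.single_eq_same]
        show (if w = [] then (1 : R) else 0) ∈ _
        split_ifs
        · exact SetLike.one_mem_graded 𝒜
        · exact Submodule.zero_mem _) j.2.1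
    rwa [List.length_finRange, Nat.add_zero] at h
  · exact Submodule.zero_mem _

end Homogeneous

section Adjugate

/-- The sections attached to a choice of columns. -/
def adjG (L : Fin m → Fin n → R) (A : Fin m → Fin n) (i : Fin m) (j : Fin n) : R :=
  ∑ p, if A p = j then (Matrix.of fun a b => L a (A b)).adjugate p i else 0

theorem sum_adjG (A : Fin m → Fin n) (l i : Fin m) :
    ∑ j, L l j * adjG L A i j = if l = i then (Matrix.of fun a b => L a (A b)).det else 0 := by
  set M : Matrix (Fin m) (Fin m) R := Matrix.of fun a b => L a (A b)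
  have h : (M * M.adjugate) l i = (M.det • (1 : Matrix (Fin m) (Fin m) R)) l i := by rw [Matrix.mul_adjugate]
  rw [Matrix.mul_apply] at h
  simp only [adjG, Finset.mul_sum]
  rw [Finset.sum_comm]
  refine Eq.trans (Finset.sum_congr rfl fun p _ => ?_) (h.trans ?_)
  · rw [Finset.sum_eq_single (A p)]
    · simp [M]
    · intro j _ hj; rw [if_neg (Ne.symm hj), mul_zero]
    · simp
  · by_cases hli : l = i <;> simp [hli, Matrix.one_apply]

variable {k : Type*} [CommRing k] [Algebra k R] (𝒜 : ℕ → Submodule k R) [SetLike.GradedMonoid 𝒜]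
  (hL : ∀ l j, L l j ∈ 𝒜 1)

include hL in
theorem adjG_mem (A : Fin m → Fin n) (i : Fin m) (j : Fin n) : adjG L A i j ∈ 𝒜 (m - 1) := by
  refine Submodule.sum_mem _ fun p _ => ?_
  split_ifs
  · rw [Matrix.adjugate_apply]
    have h := det_mem 𝒜 (M := ((Matrix.of fun a b => L a (A b)).updateRow i (Pi.single p 1)))
      (fun l => if l = i then 0 else 1) fun l b => by
        by_cases hl : l = i
        · subst hl
          rw [Matrix.updateRow_self, if_pos rfl, Pi.single_apply]
          split_ifs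
          · exact SetLike.one_mem_graded 𝒜
          · exact Submodule.zero_mem _
        · rw [Matrix.updateRow_ne hl, if_neg hl]
          exact hL l _
    rwa [show (∑ l : Fin m, if l = i then 0 else 1) = m - 1 by
      rw [Finset.sum_ite, Finset.sum_const_zero, zero_add, Finset.sum_const, smul_eq_mul, mul_one,
        Finset.filter_ne' Finset.univ i, Finset.card_erase_of_mem (Finset.mem_univ i), Finset.card_univ,
        Fintype.card_fin]] at h
  · exact Submodule.zero_mem _

end Adjugate

end Groth.Agent.EagonN
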